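import Cfsg.Agent.H184.FC.Types
import Cfsg.Agent.H786.FC.Parts
import Mathlib
import Cfsg.Agent.H412.FC.BBridge
import Cfsg.Agent.H567.FC.ZMap
import Cfsg.Agent.ClassicalGeometry.HermOrthonormal
import Cfsg.Agent.H195.FC.NormU
import Cfsg.Agent.H786.FC.PartsC4
set_option linter.all false

-- part: H245/FC/CyModel
section
/-!
# S5764, L-C3c: the model `R = End_K(F)` (helper245)

`Cy φ` : `V` is one-dimensional over the finite field `F` (embedded by `φ` in `R = End_K(V)`): the Frobenius `T`.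
-/

set_option autoImplicit false
set_option linter.unusedSectionVars false

namespace Cfsg.Agent.H245.FC

open Module Cfsg.Agent.H198.FC Cfsg.Agent.H184.FC

universe u v w

variable {K : Type u} [Field K] [Finite K] {V : Type v} [AddCommGroup V] [Module K V] [Module.Finite K V]
  {F : Type w} [Field F] [Finite F] [Algebra K F]

/-- the data of the model -/
structure Cy (φ : F →ₐ[K] R K V) where
  τ : F ≃ₐ[K] F
  frob : ∀ a, τ a = a ^ Nat.card K
  ord : orderOf τ = finrank K F
  gal : Nat.card (F ≃ₐ[K] F) = finrank K F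
  T : R K V
  ty : Ty φ τ T
  unit : IsUnit T
  cent : ∀ X : R K V, (∀ a, X * φ a = φ a * X) → ∃ c, X = φ c
  det : ∀ b, LinearMap.det (φ b) = Algebra.norm K b
  inj : ∀ a, Algebra.norm K (-a) ≠ 1 → IsUnit (1 + φ a * T)
  Te : T ^ finrank K F = 1

theorem norm_alg (τ : F ≃ₐ[K] F) (a : F) : Algebra.norm K (τ a) = Algebra.norm K a := by
  have h := Algebra.norm_eq_of_equiv_equiv (RingEquiv.refl K) (τ : F ≃+* F) (by ext x; simp) a
  exact h.symm

theorem exists_cy (φ : F →ₐ[K] R K V) (h : finrank K F = finrank K V) : Nonempty (Cy φ) := by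
  classical
  have := Fintype.ofFinite K
  have := Fintype.ofFinite F
  let _ : Module F V := Module.compHom V (φ : F →+* R K V)
  have hsm : ∀ (a : F) (v : V), a • v = φ a v := fun _ _ => rfl
  have : IsScalarTower K F V := ⟨fun k a v => by
    rw [hsm, hsm, map_smul]; rfl⟩
  have : Module.Finite F V := Module.Finite.of_restrictScalars_finite K F V
  have hF0 : 0 < finrank K F := finrank_pos
  have h5 : Module.finrank F V = 1 := by
    have h6 := Module.finrank_mul_finrank K F V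
    rw [h] at h6
    rw [h] at hF0
    exact Nat.eq_of_mul_eq_mul_left hF0 (h6.trans (mul_one _).symm)
  let Ψ : V ≃ₗ[F] F := LinearEquiv.ofFinrankEq V F (by rw [h5, finrank_self])
  let Θ : Module.End K F ≃ₐ[K] R K V := ((Ψ.restrictScalars K).symm).conjAlgEquiv K
  have hΘ : ∀ a : F, Θ (Algebra.lmul K F a) = φ a := by
    intro a
    apply LinearMap.ext
    intro v
    show Ψ.symm (a * Ψ v) = φ a v
    rw [← smul_eq_mul, map_smul, LinearEquiv.symm_apply_apply]
    rfl
  let τ : F ≃ₐ[K] F := FiniteField.frobeniusAlgEquivOfAlgebraic K F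
  have hτ : ∀ a, τ a = a ^ Fintype.card K := fun a => rfl
  have hord : orderOf τ = finrank K F := FiniteField.orderOf_frobeniusAlgEquivOfAlgebraic K F
  have hiter : ∀ n : ℕ, (τ.toLinearMap : Module.End K F) ^ n = (τ ^ n).toLinearMap := by
    intro n
    induction n with
    | zero => rfl
    | succ n ih => rw [pow_succ, ih, pow_succ]; rfl
  refine ⟨⟨τ, fun a => by rw [hτ, Nat.card_eq_fintype_card], hord, ?_, Θ τ.toLinearMap, ?_, ?_, ?_, ?_, ?_, ?_⟩⟩
  · have h1 := Nat.card_congr (Equiv.ofBijective _ (FiniteField.bijective_frobeniusAlgEquivOfAlgebraic_pow K F))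
    rw [← h1, Nat.card_eq_fintype_card, Fintype.card_fin]
  · intro a
    rw [← hΘ, ← hΘ, ← map_mul, ← map_mul]
    congr 1
    apply LinearMap.ext
    intro v
    show τ (a * v) = τ a * τ v
    rw [map_mul]
  · refine IsUnit.map Θ ?_
    refine IsUnit.of_mul_eq_one (τ.symm.toLinearMap : Module.End K F) ?_
    apply LinearMap.ext
    intro v
    show τ (τ.symm v) = v
    simp
  · intro X hX
    refine ⟨Θ.symm X 1, ?_⟩
    rw [← hΘ]
    apply Θ.symm.injective
    rw [AlgEquiv.symm_apply_apply]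
    apply LinearMap.ext
    intro v
    have h1 : Θ.symm X * Algebra.lmul K F v = Algebra.lmul K F v * Θ.symm X := by
      apply Θ.injective
      rw [map_mul, map_mul, hΘ, AlgEquiv.apply_symm_apply, hX]
    have h2 := congrArg (fun Y : Module.End K F => Y 1) h1
    change Θ.symm X (v * 1) = v * Θ.symm X 1 at h2
    rw [mul_one] at h2
    show Θ.symm X v = Θ.symm X 1 * v
    rw [h2, mul_comm]
  · intro b
    rw [← hΘ, Algebra.norm_apply]
    exact LinearMap.det_conj (Algebra.lmul K F b) (Ψ.restrictScalars K).symm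
  · intro a ha
    have h1 : (1 : R K V) + φ a * Θ τ.toLinearMap = Θ (1 + Algebra.lmul K F a * τ.toLinearMap) := by
      rw [map_add, map_one, map_mul, hΘ]
    rw [h1]
    refine IsUnit.map Θ ?_
    rw [LinearMap.isUnit_iff_ker_eq_bot, LinearMap.ker_eq_bot']
    intro v hv
    have h2 : v + a * τ v = 0 := hv
    by_contra hv0
    apply ha
    have h3 : -a * τ v = v := by
      rw [neg_mul]
      exact (eq_neg_of_add_eq_zero_left h2).symm
    have h4 := congrArg (Algebra.norm K) h3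
    rw [map_mul, norm_alg] at h4
    exact mul_right_cancel₀ (Algebra.norm_ne_zero_iff.2 hv0) (h4.trans (one_mul _).symm)
  · rw [← map_pow, hiter, ← hord, pow_orderOf_eq_one]
    exact map_one Θ

namespace Cy

variable {φ : F →ₐ[K] R K V} (C : Cy φ)
include C

theorem ty_pow (i : ℕ) : Ty φ (C.τ ^ i) (C.T ^ i) := by
  induction i with
  | zero => rw [pow_zero, pow_zero]; exact ty_one
  | succ n ih => rw [pow_succ, pow_succ]; exact ih.mul C.ty

theorem ty_phi (b : F) : Ty φ 1 (φ b) := fun a => by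
  rw [← map_mul, ← map_mul, mul_comm]; rfl

theorem nontriv [Nontrivial V] : Function.Injective φ := (φ : F →+* R K V).injective

theorem span [Nontrivial V] (h : finrank K F = finrank K V) (X : R K V) :
    ∃ c : Fin (finrank K F) → F, X = ∑ i, φ (c i) * C.T ^ (i : ℕ) := by
  classical
  let L : (Fin (finrank K F) → F) →ₗ[K] R K V :=
    { toFun := fun c => ∑ i, φ (c i) * C.T ^ (i : ℕ)
      map_add' := fun c d => by simp [add_mul, Finset.sum_add_distrib]
      map_smul' := fun a c => by simp [Finset.smul_sum] }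
  have hinj : Function.Injective L := by
    rw [← LinearMap.ker_eq_bot, LinearMap.ker_eq_bot']
    intro c hc
    have hc' : ∑ i, φ (c i) * C.T ^ (i : ℕ) = 0 := hc
    funext i
    have h1 := Ty.indep (φ := φ) (g := fun i : Fin (finrank K F) => 1 * C.τ ^ (i : ℕ)) (fun i j hij => by
      have h2 : C.τ ^ (i : ℕ) = C.τ ^ (j : ℕ) := by simpa using hij
      apply Fin.ext
      exact pow_injOn_Iio_orderOf (by rw [Set.mem_Iio, C.ord]; exact i.2) (by rw [Set.mem_Iio, C.ord]; exact j.2) h2)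
      (z := fun i => φ (c i) * C.T ^ (i : ℕ)) (fun i => (C.ty_phi (c i)).mul (C.ty_pow i)) hc' i
    have h3 : φ (c i) = 0 := by
      have h4 : IsUnit (C.T ^ (i : ℕ)) := C.unit.pow _
      exact (h4.mul_left_eq_zero).1 h1
    exact C.nontriv (h3.trans (map_zero φ).symm)
  have hfin : finrank K (Fin (finrank K F) → F) = finrank K (R K V) := by
    rw [Module.finrank_pi_fintype, Module.finrank_linearMap, Finset.sum_const, Finset.card_univ, Fintype.card_fin,
      smul_eq_mul, h]
  obtain ⟨c, hc⟩ := (LinearMap.injective_iff_surjective_of_finrank_eq_finrank hfin).1 hinj X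
  exact ⟨c, hc.symm⟩

/-- a ring automorphism fixing `φ(F)` and `T` is trivial -/
theorem eq_one [Nontrivial V] (h : finrank K F = finrank K V) {f : Equiv.Perm (R K V)}
    (hf0 : ∀ X Y, f (X + Y) = f X + f Y) (hf : ∀ X Y, f (X * Y) = f X * f Y) (h1 : ∀ a, f (φ a) = φ a)
    (h2 : f C.T = C.T) : f = 1 := by
  apply Equiv.ext
  intro X
  obtain ⟨c, rfl⟩ := C.span h X
  show f _ = _
  let f' : R K V →+ R K V := ⟨⟨f, by
    have := hf0 0 0
    rw [add_zero] at this
    exact left_eq_add.1 this⟩, hf0⟩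
  have h3 : f (∑ i, φ (c i) * C.T ^ (i : ℕ)) = f' (∑ i, φ (c i) * C.T ^ (i : ℕ)) := rfl
  rw [h3, map_sum]
  refine Finset.sum_congr rfl fun i _ => ?_
  show f (φ (c i) * C.T ^ (i : ℕ)) = _
  rw [hf, h1]
  congr 1
  have h4 : ∀ n : ℕ, f (C.T ^ n) = C.T ^ n := by
    intro n
    induction n with
    | zero => rw [pow_zero]; exact f_one (Or.inl hf)
    | succ n ih => rw [pow_succ, hf, ih, h2]
  exact h4 _

end Cy

end Cfsg.Agent.H245.FC
end

-- part: H245/FC/CyA
section
/-!
# S5764, L-C3c: `|K| ≥ 3` (helper245)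
-/

set_option autoImplicit false
set_option linter.unusedSectionVars false

namespace Cfsg.Agent.H245.FC

open Module Cfsg.Agent.H198.FC Cfsg.Agent.H184.FC

universe u v w

variable {K : Type u} [Field K] [Finite K] {V : Type v} [AddCommGroup V] [Module K V] [Module.Finite K V]
  {F : Type w} [Field F] [Finite F] [Algebra K F]

theorem exists_gen_field (F : Type w) [Field F] [Finite F] : ∃ g : F, g ≠ 0 ∧ ∀ a : F, a = 0 ∨ ∃ k : ℕ, a = g ^ k := by
  obtain ⟨g, hg⟩ := IsCyclic.exists_generator (α := Fˣ)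
  refine ⟨g, g.ne_zero, fun a => ?_⟩
  by_cases ha : a = 0
  · exact Or.inl ha
  right
  obtain ⟨k, hk⟩ := (mem_powers_iff_mem_zpowers (x := g)).2 (hg (Units.mk0 a ha))
  refine ⟨k, ?_⟩
  have := congrArg (fun u : Fˣ => (u : F)) hk
  simpa using this.symm

/-- a ring automorphism fixing all `τ(u)/u` is trivial -/
theorem rho_one {τ : F ≃ₐ[K] F} (hτ : τ ≠ 1) {g : F} (hg0 : g ≠ 0) (hg : ∀ a : F, a = 0 ∨ ∃ k : ℕ, a = g ^ k)
    (ρ : F ≃+* F) (h : ρ (τ g / g) = τ g / g) : ∀ a, ρ a = a := by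
  have hτg : τ g ≠ g := by
    intro e
    apply hτ
    ext a
    rcases hg a with rfl | ⟨k, rfl⟩
    · simp
    · rw [map_pow, e]; rfl
  have h1 : ∀ u : F, u ≠ 0 → ρ (τ u / u) = τ u / u := by
    intro u hu
    rcases hg u with h0 | ⟨k, rfl⟩
    · exact absurd h0 hu
    · rw [map_pow, ← div_pow, map_pow, h]
  have h2 : ∀ u : F, u ≠ 0 → τ (ρ u / u) = ρ u / u := by
    intro u hu
    have hρu : ρ u ≠ 0 := by rwa [Ne, map_eq_zero_iff ρ ρ.injective]
    have hτu : τ u ≠ 0 := by rwa [Ne, map_eq_zero_iff τ τ.injective]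
    have h3 := h1 u hu
    rw [map_div₀, comm_gal] at h3
    rw [map_div₀]
    field_simp
    field_simp at h3
    linear_combination h3
  have h3 : ∀ u : F, τ u ≠ u → ρ u = u := by
    intro u hu
    have hu0 : u ≠ 0 := fun e => hu (by rw [e, map_zero])
    have hu1 : 1 + u ≠ 0 := by
      intro e
      apply hu
      have : u = -1 := (eq_neg_of_add_eq_zero_right e)
      rw [this, map_neg, map_one]
    obtain ⟨c, hc⟩ : ∃ c, c = ρ u / u := ⟨_, rfl⟩
    obtain ⟨d, hd⟩ : ∃ d, d = ρ (1 + u) / (1 + u) := ⟨_, rfl⟩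
    have hc1 : τ c = c := by rw [hc]; exact h2 u hu0
    have hd1 : τ d = d := by rw [hd]; exact h2 _ hu1
    have hc2 : ρ u = c * u := by rw [hc]; field_simp
    have hd2 : ρ (1 + u) = d * (1 + u) := by rw [hd]; field_simp
    rw [map_add, map_one, hc2] at hd2
    have h4 : (d - 1) = (c - d) * u := by linear_combination -hd2
    by_cases hcd : c - d = 0
    · rw [hcd, zero_mul, sub_eq_zero] at h4
      rw [hc2, sub_eq_zero.1 hcd, h4, one_mul]
    · exfalso
      apply hu
      have h5 : u = (d - 1) / (c - d) := by rw [h4]; field_simp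
      rw [h5, map_div₀, map_sub, map_sub, map_one, hc1, hd1]
  intro a
  by_cases ha : τ a = a
  · by_cases ha0 : a = 0
    · rw [ha0, map_zero]
    have h4 : τ (a * g) ≠ a * g := by
      rw [map_mul, ha]
      intro e
      exact hτg (mul_left_cancel₀ ha0 e)
    have h5 := h3 _ h4
    rw [map_mul, h3 g hτg] at h5
    exact mul_right_cancel₀ hg0 h5
  · exact h3 a ha

theorem exists_nu {K : Type u} [Field K] [Finite K] (h3 : 3 ≤ Nat.card K) :
    ∃ ν : K, ν ≠ 0 ∧ ν ≠ 1 ∧ (4 ≤ Nat.card K → ν * ν ≠ 1) := by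
  classical
  have := Fintype.ofFinite K
  rw [Nat.card_eq_fintype_card] at h3 ⊢
  by_cases h4 : 4 ≤ Fintype.card K
  · by_contra hcon
    push Not at hcon
    have h1 : (Finset.univ : Finset K) ⊆ {0, 1, -1} := by
      intro ν _
      simp only [Finset.mem_insert, Finset.mem_singleton]
      by_cases h0 : ν = 0
      · exact Or.inl h0
      by_cases h1 : ν = 1
      · exact Or.inr (Or.inl h1)
      obtain ⟨-, h2⟩ := hcon ν h0 h1
      have h5 : (ν - 1) * (ν + 1) = 0 := by linear_combination h2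
      rcases mul_eq_zero.1 h5 with h6 | h6
      · exact absurd (sub_eq_zero.1 h6) h1
      · exact Or.inr (Or.inr (eq_neg_of_add_eq_zero_left h6))
    have h2 := Finset.card_le_card h1
    have h5 : ({0, 1, -1} : Finset K).card ≤ 3 := Finset.card_le_three
    rw [Finset.card_univ] at h2
    omega
  · by_contra hcon
    push Not at hcon
    have h1 : (Finset.univ : Finset K) ⊆ {0, 1} := by
      intro ν _
      simp only [Finset.mem_insert, Finset.mem_singleton]
      by_cases h0 : ν = 0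
      · exact Or.inl h0
      by_cases h1 : ν = 1
      · exact Or.inr h1
      exact absurd (hcon ν h0 h1).1 h4
    have h2 := Finset.card_le_card h1
    have h5 : ({0, 1} : Finset K).card ≤ 2 := Finset.card_le_two
    rw [Finset.card_univ] at h2
    omega

namespace Cy

variable {φ : F →ₐ[K] R K V} (C : Cy φ)

theorem phi_unit {b : F} (hb : b ≠ 0) : IsUnit (φ b) := by
  have := (Units.mk0 b hb).isUnit.map φ
  exact this

include C

theorem exists_unit {a : F} (ha : Algebra.norm K (-a) ≠ 1) :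
    ∃ x x' : (R K V)ˣ, LinearMap.det (x : R K V) = 1 ∧ (x' : R K V) = 1 + φ a * C.T ∧
      ∀ f : Equiv.Perm (R K V), Kp φ f x → Kp φ f x' := by
  obtain ⟨x', hx'⟩ := C.inj a ha
  have hd : LinearMap.det (x' : R K V) ≠ 0 := (x'.isUnit.map LinearMap.det).ne_zero
  obtain ⟨b, hb⟩ := FiniteField.norm_surjective K F (LinearMap.det (x' : R K V))⁻¹
  have hb0 : b ≠ 0 := by
    rw [← Algebra.norm_ne_zero_iff (R := K), hb]
    exact inv_ne_zero hd
  obtain ⟨B, hB⟩ := phi_unit (φ := φ) hb0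
  refine ⟨B * x', x', ?_, hx', fun f hf => ?_⟩
  · rw [Units.val_mul, map_mul, hB, C.det, hb, inv_mul_cancel₀ hd]
  · exact Kp.of_mul (b := b) (by rw [Units.val_mul, hB]) hf

theorem five_big [Nontrivial V] (h : finrank K F = finrank K V) (he : (finrank K F).Prime)
    (S : Subgroup (Equiv.Perm (R K V))) (hS : S ≤ RA K V)
    (h2 : finrank K V = 2 → S ≤ RP K V ∧ 4 ≤ Nat.card K) (h3 : 3 ≤ Nat.card K)
    (hSE : ∀ f ∈ S, ∀ a : F, ∃ b : F, f (φ a) = φ b) : Five S := by
  classical
  obtain ⟨g, hg0, hg⟩ := exists_gen_field F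
  have hτ : C.τ ≠ 1 := by
    intro e
    have h4 := C.ord
    rw [e, orderOf_one] at h4
    exact he.one_lt.ne h4
  have hττ : finrank K F ≠ 2 → C.τ * C.τ ≠ 1 := by
    intro h4 e
    have h5 : orderOf C.τ ∣ 2 := orderOf_dvd_of_pow_eq_one (by rw [sq]; exact e)
    rw [C.ord] at h5
    rcases (Nat.dvd_prime Nat.prime_two).1 h5 with h6 | h6
    · exact he.one_lt.ne h6.symm
    · exact h4 h6
  obtain ⟨ν, hν0, hν1, hν2⟩ := exists_nu h3
  obtain ⟨b, hb⟩ := FiniteField.norm_surjective K F ν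
  obtain ⟨a, ha⟩ : ∃ a, a = -b := ⟨_, rfl⟩
  have hτg : C.τ g ≠ 0 := by rwa [Ne, map_eq_zero_iff C.τ C.τ.injective]
  obtain ⟨w, hw⟩ : ∃ w, w = C.τ g / g := ⟨_, rfl⟩
  have hNw : Algebra.norm K w = 1 := by
    have h5 : w * g = C.τ g := by rw [hw]; field_simp
    have h6 := congrArg (Algebra.norm K) h5
    rw [map_mul, norm_alg] at h6
    exact mul_right_cancel₀ (Algebra.norm_ne_zero_iff.2 hg0) (h6.trans (one_mul _).symm)
  have hNa : Algebra.norm K (-a) ≠ 1 := by rw [ha, neg_neg, hb]; exact hν1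
  have hNaw : Algebra.norm K (-(w * a)) ≠ 1 := by
    rw [ha, mul_neg, neg_neg, map_mul, hNw, one_mul, hb]; exact hν1
  have ha0 : a ≠ 0 := by
    rw [ha, neg_ne_zero, ← Algebra.norm_ne_zero_iff (R := K), hb]
    exact hν0
  obtain ⟨x₁, x₁', hd1, hx1, hk1⟩ := C.exists_unit hNa
  obtain ⟨x₂, x₂', hd2, hx2, hk2⟩ := C.exists_unit hNaw
  refine ⟨fun i => if i = 0 then x₁ else x₂, fun i => ?_, fun f hf hfx => ?_⟩
  · show LinearMap.det ((if i = 0 then x₁ else x₂ : (R K V)ˣ) : R K V) = 1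
    split_ifs
    · exact hd1
    · exact hd2
  have hK1 : Kp φ f x₁' := by
    apply hk1
    have := hfx 0
    simp only [if_true] at this
    exact kp_of_mem hSE this
  have hK2 : Kp φ f x₂' := by
    apply hk2
    have := hfx 1
    simp only [show (1 : Fin 4) ≠ 0 from by decide, if_false] at this
    exact kp_of_mem hSE this
  obtain ⟨hf0, hfm⟩ := hS hf
  obtain ⟨ρ, hρ⟩ := exists_rho hf0 hfm (hSE f hf)
  have hy1 : Ty φ C.τ (φ a * C.T) := by
    have := (C.ty_phi a).mul C.ty
    rwa [one_mul] at this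
  have hy2 : Ty φ C.τ (φ (w * a) * C.T) := by
    have := (C.ty_phi (w * a)).mul C.ty
    rwa [one_mul] at this
  have hy12 : φ (w * a) * C.T = φ w * (φ a * C.T) := by rw [map_mul, mul_assoc]
  have hu1 : IsUnit (φ a * C.T) := (phi_unit ha0).mul C.unit
  by_cases hmul : ∀ X Y, f (X * Y) = f X * f Y
  · have hA1 := auto_cases hf0 hmul hρ hτ hy1 hx1 hK1
    have hA2 := auto_cases hf0 hmul hρ hτ hy2 hx2 hK2
    have key : f (φ a * C.T) = φ a * C.T → f (φ (w * a) * C.T) = φ (w * a) * C.T → f = 1 := by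
      intro e1 e2
      have e3 : ρ w = w := by
        rw [hy12, hmul, hρ, e1] at e2
        exact C.nontriv (hu1.mul_right_cancel e2)
      have e4 := rho_one hτ hg0 hg ρ (by rw [← hw]; exact e3)
      refine C.eq_one h hf0 hmul (fun c => by rw [hρ, e4]) ?_
      rw [hmul, hρ, e4] at e1
      exact (phi_unit ha0).mul_left_cancel e1
    by_cases he2 : finrank K F = 2
    · have h4 := (h2 (h ▸ he2)).2
      have hT2 : C.T * C.T = 1 := by
        have := C.Te
        rw [he2, sq] at this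
        exact this
      have hττ1 : ∀ c, C.τ (C.τ c) = c := by
        intro c
        have h5 : C.τ ^ 2 = 1 := by rw [← he2, ← C.ord]; exact pow_orderOf_eq_one _
        have h6 := congrArg (fun s : F ≃ₐ[K] F => s c) h5
        exact h6
      obtain ⟨n, hn⟩ : ∃ n, n = a * C.τ a := ⟨_, rfl⟩
      have hsq : ∀ c, (φ c * C.T) * (φ c * C.T) = φ (c * C.τ c) := by
        intro c
        rw [mul_assoc, ← mul_assoc C.T, C.ty c, mul_assoc, hT2, mul_one, ← map_mul]
      have hsq1 : (φ a * C.T) * (φ a * C.T) = φ n := by rw [hsq, hn]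
      have hsq2 : (φ (w * a) * C.T) * (φ (w * a) * C.T) = φ n := by
        rw [hsq, hn]
        congr 1
        rw [map_mul, hw, map_div₀, hττ1]
        field_simp
      have hn1 : n = algebraMap K F ν := by
        rw [hn, ha, map_neg, neg_mul_neg, ← hb, FiniteField.algebraMap_norm_eq_pow, C.frob]
        have h5 : (Nat.card F - 1) / (Nat.card K - 1) = Nat.card K + 1 := by
          have h6 : Nat.card F = Nat.card K ^ 2 := by rw [← he2]; exact Module.natCard_eq_pow_finrank
          have h7 : Nat.card K ^ 2 - 1 = (Nat.card K + 1) * (Nat.card K - 1) := by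
            have := Nat.sq_sub_sq (Nat.card K) 1
            rwa [one_pow] at this
          rw [h6, h7]
          exact Nat.mul_div_cancel _ (by omega)
        rw [h5, pow_succ, mul_comm]
      have hn0 : n ≠ 0 := by
        rw [hn1, Ne, map_eq_zero_iff _ (algebraMap K F).injective]
        exact hν0
      have hnn : n ≠ n⁻¹ := by
        intro e
        have h5 : n * n = 1 := by
          nth_rewrite 2 [e]
          exact mul_inv_cancel₀ hn0
        apply hν2 h4
        apply (algebraMap K F).injective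
        rw [map_mul, ← hn1, h5, map_one]
      have c1 : ∀ y : R K V, y * y = φ n → f y = y → ρ n = n := by
        intro y e1 e2
        have e3 : φ (ρ n) = φ n := by rw [← hρ, ← e1, hmul, e2]
        exact C.nontriv e3
      have c2 : ∀ y : R K V, y * y = φ n → y * f y = 1 → f y = φ n⁻¹ * y ∧ ρ n = n⁻¹ := by
        intro y e1 e2
        have e3 : f y = φ n⁻¹ * y := by
          have e4 : φ n⁻¹ * (y * y) = 1 := by rw [e1, ← map_mul, inv_mul_cancel₀ hn0, map_one]
          calc f y = (φ n⁻¹ * (y * y)) * f y := by rw [e4, one_mul]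
            _ = φ n⁻¹ * (y * (y * f y)) := by simp only [mul_assoc]
            _ = _ := by rw [e2, mul_one]
        refine ⟨e3, ?_⟩
        have e5 : φ (ρ n) = φ n⁻¹ := by
          rw [← hρ, ← e1, hmul]
          have e6 : f y * f y = φ n⁻¹ * (y * f y) := by rw [← mul_assoc, ← e3]
          rw [e6, e2, mul_one]
        exact C.nontriv e5
      rcases hA1 with e1 | ⟨-, e1⟩ <;> rcases hA2 with e2 | ⟨-, e2⟩
      · exact key e1 e2
      · exact absurd ((c1 _ hsq1 e1).symm.trans (c2 _ hsq2 e2).2) hnn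
      · exact absurd ((c1 _ hsq2 e2).symm.trans (c2 _ hsq1 e1).2) hnn
      · exfalso
        obtain ⟨d1, d2⟩ := c2 _ hsq1 e1
        obtain ⟨d3, -⟩ := c2 _ hsq2 e2
        have d4 : ρ w = w := by
          rw [hy12, hmul, hρ, d1, ← mul_assoc, ← mul_assoc (φ n⁻¹), ← map_mul, ← map_mul] at d3
          have d5 := C.nontriv (hu1.mul_right_cancel d3)
          rw [mul_comm] at d5
          exact mul_left_cancel₀ (inv_ne_zero hn0) d5
        have d5 := rho_one hτ hg0 hg ρ (by rw [← hw]; exact d4) n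
        exact hnn (d5.symm.trans d2)
    · rcases hA1 with e1 | ⟨e1, -⟩
      · rcases hA2 with e2 | ⟨e2, -⟩
        · exact key e1 e2
        · exact absurd e2 (hττ he2)
      · exact absurd e1 (hττ he2)
  · exfalso
    rcases hfm with hfm | hfm
    · exact hmul hfm
    by_cases he2 : finrank K F = 2
    · exact hmul ((h2 (h ▸ he2)).1 hf).2
    · exact anti_no hf0 hfm hρ (hττ he2) hy1 hu1.ne_zero hx1 hK1

end Cy

end Cfsg.Agent.H245.FC
end

-- part: H245/FC/CyB
section
/-!
# S5764, L-C3c: `|K| = 2`, and `StmtC3c` (helper245)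
-/

set_option autoImplicit false
set_option linter.unusedSectionVars false

namespace Cfsg.Agent.H245.FC

open Module Cfsg.Agent.H198.FC Cfsg.Agent.H184.FC

universe u v w

variable {K : Type u} [Field K] [Finite K] {V : Type v} [AddCommGroup V] [Module K V] [Module.Finite K V]
  {F : Type w} [Field F] [Finite F] [Algebra K F]

/-- a unit of determinant 1 without a type -/
theorem exists_notype (φ : F →ₐ[K] R K V) [Nontrivial V] (h : finrank K F = finrank K V) (h3 : 3 ≤ finrank K V)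
    {g : F} (hg : ∀ a : F, a = 0 ∨ ∃ k : ℕ, a = g ^ k) :
    ∃ x : (R K V)ˣ, LinearMap.det (x : R K V) = 1 ∧ ∀ σ : F ≃ₐ[K] F, ¬ Ty φ σ (x : R K V) := by
  classical
  obtain ⟨v, hv⟩ := exists_ne (0 : V)
  have hinj : Function.Injective φ := (φ : F →+* R K V).injective
  have hphi : ∀ c : F, φ c v = 0 → c = 0 := by
    intro c hc
    by_contra hc0
    apply hv
    have h1 : φ c⁻¹ (φ c v) = v := by
      rw [← Module.End.mul_apply, ← map_mul, inv_mul_cancel₀ hc0, map_one]; rfl
    rw [← h1, hc, map_zero]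
  let W : Submodule K V := Submodule.span K {v, φ g v}
  have hW : W < ⊤ := by
    rw [lt_top_iff_ne_top]
    intro e
    have h1 : finrank K W ≤ 2 := by
      refine (finrank_span_le_card _).trans ?_
      rw [Set.toFinset_insert, Set.toFinset_singleton]
      exact Finset.card_le_two
    rw [e, finrank_top] at h1
    omega
  obtain ⟨ℓ, hℓ, hWℓ⟩ := Submodule.exists_le_ker_of_lt_top W hW
  have hv0 : ℓ v = 0 := LinearMap.mem_ker.1 (hWℓ (Submodule.subset_span (by simp)))
  have hgv0 : ℓ (φ g v) = 0 := LinearMap.mem_ker.1 (hWℓ (Submodule.subset_span (by simp)))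
  let t : R K V := ℓ.smulRight v
  have ht : ∀ u, t u = ℓ u • v := fun u => rfl
  have htt : t * t = 0 := by
    ext u
    rw [Module.End.mul_apply, ht, ht, map_smul, hv0, smul_zero, zero_smul]; rfl
  have hn : IsNilpotent t := ⟨2, by rw [sq, htt]⟩
  refine ⟨un hn, by rw [coe_un]; exact H184.FC.det_one_add hn, fun σ hσ => ?_⟩
  rw [coe_un] at hσ
  have hx : ∀ u, ((1 : R K V) + t) u = u + ℓ u • v := fun u => rfl
  have h1 : ∀ a, φ a v + ℓ (φ a v) • v = φ (σ a) v := by
    intro a
    have h2 := congrArg (fun X : R K V => X v) (hσ a)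
    simp only [Module.End.mul_apply, hx] at h2
    rw [hv0, zero_smul, add_zero] at h2
    exact h2
  have h2 : σ g = g := by
    have h4 := h1 g
    rw [hgv0, zero_smul, add_zero] at h4
    have h5 : φ (σ g - g) v = 0 := by rw [map_sub, LinearMap.sub_apply, ← h4, sub_self]
    exact sub_eq_zero.1 (hphi _ h5)
  have h3 : ∀ a, σ a = a := by
    intro a
    rcases hg a with rfl | ⟨k, rfl⟩
    · exact map_zero σ
    · rw [map_pow, h2]
  have h4 : ∀ a, ℓ (φ a v) = 0 := by
    intro a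
    have h5 := h1 a
    rw [h3, add_eq_left, smul_eq_zero] at h5
    exact h5.resolve_right hv
  apply hℓ
  ext u
  let L : F →ₗ[K] V := (LinearMap.applyₗ v).comp φ.toLinearMap
  have hL : ∀ a, L a = φ a v := fun _ => rfl
  have hLi : Function.Injective L := by
    rw [← LinearMap.ker_eq_bot, LinearMap.ker_eq_bot']
    exact fun c hc => hphi c hc
  obtain ⟨a, ha⟩ := (LinearMap.injective_iff_surjective_of_finrank_eq_finrank h).1 hLi u
  rw [← ha, hL, h4]; rfl

namespace Cy

variable {φ : F →ₐ[K] R K V} (C : Cy φ)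
include C

theorem ty_npow {σ : F ≃ₐ[K] F} {X : R K V} (h : Ty φ σ X) (n : ℕ) : Ty φ (σ ^ n) (X ^ n) := by
  induction n with
  | zero => rw [pow_zero, pow_zero]; exact ty_one
  | succ n ih => rw [pow_succ, pow_succ]; exact ih.mul h

/-- (G1) -/
theorem z_one (he : (finrank K F).Prime) (h2 : Nat.card K = 2) {x : (R K V)ˣ}
    (hx : ∀ σ : F ≃ₐ[K] F, ¬ Ty φ σ (x : R K V)) {z : F} (hz : z ≠ 0) {σ : F ≃ₐ[K] F}
    (h : Ty φ σ ((x : R K V) * φ z * ((x⁻¹ : (R K V)ˣ) : R K V))) : z = 1 := by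
  classical
  have := Fintype.ofFinite K
  have := Fintype.ofFinite F
  let ψ : F →ₐ[K] R K V :=
    { toFun := fun a => (x : R K V) * φ a * ((x⁻¹ : (R K V)ˣ) : R K V)
      map_one' := by simp
      map_mul' := fun a b => by simp [mul_assoc]
      map_zero' := by simp
      map_add' := fun a b => by simp [mul_add, add_mul]
      commutes' := fun k => by
        rw [AlgHom.commutes, ← Algebra.commutes, mul_assoc, Units.mul_inv, mul_one] }
  have hψ : ∀ a, ψ a = (x : R K V) * φ a * ((x⁻¹ : (R K V)ˣ) : R K V) := fun _ => rfl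
  -- the `e`-th power is in `K`
  have h3 := C.ty_npow h (finrank K F)
  have h4 : σ ^ finrank K F = 1 := by
    rw [← C.gal]
    exact pow_card_eq_one'
  rw [h4, ← hψ, ← map_pow] at h3
  obtain ⟨c, hc⟩ := C.cent _ h3
  have hA : z ^ finrank K F ∈ (φ.range).comap ψ := by
    rw [Subalgebra.mem_comap, hc]
    exact ⟨c, rfl⟩
  have hze : z ^ finrank K F = 1 := by
    rcases (Subalgebra.isSimpleOrder_of_finrank_prime K F he).eq_bot_or_eq_top ((φ.range).comap ψ) with h5 | h5
    · rw [h5, Algebra.mem_bot] at hA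
      obtain ⟨k, hk⟩ := hA
      have hk0 : k ≠ 0 := by
        rintro rfl
        rw [map_zero] at hk
        exact pow_ne_zero _ hz hk.symm
      have hk1 : k = 1 := by
        have h6 := FiniteField.pow_card_sub_one_eq_one k hk0
        rw [← Nat.card_eq_fintype_card, h2] at h6
        simpa using h6
      rw [← hk, hk1, map_one]
    · exfalso
      obtain ⟨σ', h6⟩ := exists_ty (φ := φ) x.isUnit (fun b => by
        have h7 : b ∈ (φ.range).comap ψ := by rw [h5]; exact Algebra.mem_top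
        rw [Subalgebra.mem_comap] at h7
        obtain ⟨c, hc⟩ := h7
        refine ⟨c, ?_⟩
        change φ c = ψ b at hc
        rw [hc, hψ, mul_assoc, Units.inv_mul, mul_one])
      exact hx σ' h6
  -- Fermat
  have h5 : z ^ (2 ^ finrank K F) = z := by
    have h6 := FiniteField.pow_card z
    rwa [Module.card_eq_pow_finrank (K := K) (V := F), ← Nat.card_eq_fintype_card (α := K), h2] at h6
  have h6 : ∃ k, 2 ^ finrank K F = finrank K F * k + 2 := by
    have := Fact.mk he
    have h7 : ((2 ^ finrank K F : ℕ) : ZMod (finrank K F)) = ((2 : ℕ) : ZMod (finrank K F)) := by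
      push_cast
      exact ZMod.pow_card _
    rw [ZMod.natCast_eq_natCast_iff] at h7
    have h8 : 2 ≤ 2 ^ finrank K F := by
      calc 2 = 2 ^ 1 := rfl
        _ ≤ _ := Nat.pow_le_pow_right (by norm_num) he.one_lt.le
    obtain ⟨k, hk⟩ := (Nat.modEq_iff_dvd' h8).1 h7.symm
    exact ⟨k, by omega⟩
  obtain ⟨k, hk⟩ := h6
  rw [hk, pow_add, pow_mul, hze, one_pow, one_mul, sq] at h5
  exact mul_left_cancel₀ hz (h5.trans (mul_one z).symm)

/-- the quotient of two typed elements -/
theorem ty_quot {σ σ' : F ≃ₐ[K] F} {m n : R K V} (hm : IsUnit m) (h : Ty φ σ m) (h' : Ty φ σ' (n * m)) :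
    Ty φ (σ' * σ⁻¹) n := by
  intro b
  have h1 := h (σ⁻¹ b)
  have h2 := h' (σ⁻¹ b)
  have h3 : σ (σ⁻¹ b) = b := by rw [← AlgEquiv.mul_apply, mul_inv_cancel]; rfl
  rw [h3] at h1
  rw [mul_assoc, h1, ← mul_assoc, ← mul_assoc] at h2
  exact hm.mul_right_cancel h2

theorem five_two [Nontrivial V] (h : finrank K F = finrank K V) (he : (finrank K F).Prime)
    (S : Subgroup (Equiv.Perm (R K V))) (hS : S ≤ RA K V) (h3 : 3 ≤ finrank K V) (h2 : Nat.card K = 2)
    (hSE : ∀ f ∈ S, ∀ a : F, ∃ b : F, f (φ a) = φ b) : Five S := by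
  classical
  have := Fintype.ofFinite K
  obtain ⟨g, hg0, hg⟩ := exists_gen_field F
  have hτ : C.τ ≠ 1 := by
    intro e
    have h4 := C.ord
    rw [e, orderOf_one] at h4
    exact he.one_lt.ne h4
  have hττ : C.τ * C.τ ≠ 1 := by
    intro e
    have h5 : orderOf C.τ ∣ 2 := orderOf_dvd_of_pow_eq_one (by rw [sq]; exact e)
    rw [C.ord] at h5
    have := Nat.le_of_dvd (by norm_num) h5
    omega
  have hτ2 : ∀ a, C.τ a = a * a := fun a => by rw [C.frob, h2, sq]
  have h20 : (2 : F) = 0 := by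
    have h4 : ((Nat.card K : ℕ) : K) = 0 := by rw [Nat.card_eq_fintype_card]; exact FiniteField.cast_card_eq_zero K
    rw [h2] at h4
    have h5 := congrArg (algebraMap K F) h4
    rw [map_natCast, map_zero] at h5
    exact_mod_cast h5
  have hdet : ∀ x : (R K V)ˣ, LinearMap.det (x : R K V) = 1 := by
    intro x
    have h4 : LinearMap.det (x : R K V) ≠ 0 := (x.isUnit.map LinearMap.det).ne_zero
    have h6 := FiniteField.pow_card_sub_one_eq_one _ h4
    rw [← Nat.card_eq_fintype_card, h2] at h6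
    simpa using h6
  obtain ⟨x, -, hx⟩ := exists_notype φ h h3 hg
  obtain ⟨U, hU⟩ := phi_unit (φ := φ) hg0
  have hUi : ((U⁻¹ : (R K V)ˣ) : R K V) = φ g⁻¹ := by
    rw [← Units.mul_right_inj U, Units.mul_inv, hU, ← map_mul, mul_inv_cancel₀ hg0, map_one]
  refine ⟨fun i => if i = 0 then x else x * U, fun i => hdet _, fun f hf hfx => ?_⟩
  have hK1 : Kp φ f x := by
    have := hfx 0
    simp only [if_true] at this
    exact kp_of_mem hSE this
  have hK2 : Kp φ f (x * U) := by
    have := hfx 1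
    simp only [show (1 : Fin 4) ≠ 0 from by decide, if_false] at this
    exact kp_of_mem hSE this
  obtain ⟨hf0, hfm⟩ := hS hf
  obtain ⟨ρ, hρ⟩ := exists_rho hf0 hfm (hSE f hf)
  have hρg0 : ρ g ≠ 0 := by rwa [Ne, map_eq_zero_iff ρ ρ.injective]
  rcases hfm with hmul | hmul
  · have hf1 := f_one (Or.inl hmul)
    obtain ⟨σ, hσ⟩ := kp_auto hmul hρ hK1
    obtain ⟨σ', hσ'⟩ := kp_auto hmul hρ hK2
    have hmu : IsUnit ((x : R K V) * f ((x⁻¹ : (R K V)ˣ) : R K V)) := by
      refine x.isUnit.mul (IsUnit.of_mul_eq_one (f x) ?_)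
      rw [← hmul, Units.inv_mul, hf1]
    have e1 : ((x * U : (R K V)ˣ) : R K V) * f (((x * U)⁻¹ : (R K V)ˣ) : R K V) =
        ((x : R K V) * φ (g * (ρ g)⁻¹) * ((x⁻¹ : (R K V)ˣ) : R K V)) *
          ((x : R K V) * f ((x⁻¹ : (R K V)ˣ) : R K V)) := by
      rw [mul_inv_rev, Units.val_mul, Units.val_mul, hUi, hmul, hρ, map_inv₀, hU, map_mul]
      simp only [mul_assoc, Units.inv_mul_cancel_left]
    rw [e1] at hσ'
    have e2 := C.z_one he h2 hx (mul_ne_zero hg0 (inv_ne_zero hρg0)) (C.ty_quot hmu hσ hσ')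
    have e3 : ρ g = g := by
      field_simp at e2
      exact e2.symm
    have e4 : ∀ a, ρ a = a := by
      intro a
      rcases hg a with rfl | ⟨k, rfl⟩
      · exact map_zero ρ
      · rw [map_pow, e3]
    have hφ : ∀ a, f (φ a) = φ a := fun a => by rw [hρ, e4]
    -- `f(T) = φ(c) T`
    obtain ⟨T, hT⟩ := C.unit
    have e5 := ty_auto hmul hρ C.ty
    obtain ⟨c, hc⟩ := C.cent (f C.T * ((T⁻¹ : (R K V)ˣ) : R K V)) (fun a => by
      have e6 : Ty φ (C.τ * C.τ⁻¹) (f C.T * ((T⁻¹ : (R K V)ˣ) : R K V)) := by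
        refine C.ty_quot C.unit C.ty ?_
        rw [← hT, mul_assoc, Units.inv_mul, mul_one, hT]
        exact e5
      rw [mul_inv_cancel] at e6
      exact e6 a)
    have hfT : f C.T = φ c * C.T := by
      rw [← hc, ← hT, mul_assoc, Units.inv_mul, mul_one]
    have hc0 : c ≠ 0 := by
      rintro rfl
      rw [map_zero, zero_mul] at hfT
      have e6 : f 0 = 0 := by
        have := hf0 0 0
        rw [add_zero] at this
        exact left_eq_add.1 this
      exact C.unit.ne_zero (f.injective (hfT.trans e6.symm))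
    obtain ⟨Z, hZ⟩ := phi_unit (φ := φ) (inv_ne_zero hc0)
    have hZi : ((Z⁻¹ : (R K V)ˣ) : R K V) = φ c := by
      rw [← Units.mul_right_inj Z, Units.mul_inv, hZ, ← map_mul, inv_mul_cancel₀ hc0, map_one]
    have hfm' : f ∈ RP K V := ⟨hf0, hmul⟩
    have hf' : (cj K V Z)⁻¹ * f ∈ RP K V := (RP K V).mul_mem ((RP K V).inv_mem (cj_mem_RP Z)) hfm'
    have hap : ∀ X, ((cj K V Z)⁻¹ * f) X = φ c * f X * φ c⁻¹ := by
      intro X
      rw [← map_inv]
      change cj K V Z⁻¹ (f X) = _
      rw [cj_apply, inv_inv, hZi, hZ]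
    have e7 : (cj K V Z)⁻¹ * f = 1 := by
      refine C.eq_one h hf'.1 hf'.2 (fun a => ?_) ?_
      · rw [hap, hφ, ← map_mul, ← map_mul]
        congr 1
        field_simp
      · rw [hap, hfT, mul_assoc, mul_assoc, C.ty, hτ2, ← mul_assoc, ← mul_assoc, ← map_mul, ← map_mul]
        have e8 : c * c * (c⁻¹ * c⁻¹) = 1 := by field_simp
        rw [e8, map_one, one_mul]
    have e8 : f = cj K V Z := by
      rw [inv_mul_eq_one] at e7
      exact e7.symm
    -- `x Z x⁻¹` normalizes `φ(F)`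
    have e9 : ∃ σ : F ≃ₐ[K] F, Ty φ σ ((x : R K V) * φ c⁻¹ * ((x⁻¹ : (R K V)ˣ) : R K V)) := by
      refine exists_ty (x.isUnit.mul (phi_unit (inv_ne_zero hc0)) |>.mul x⁻¹.isUnit) fun b => ?_
      obtain ⟨b', hb'⟩ := hK1 b
      refine ⟨b', ?_⟩
      rw [e8, cj_apply, hZ, hZi] at hb'
      have e10 := congrArg (fun X : R K V => (x : R K V) * X * φ c⁻¹ * ((x⁻¹ : (R K V)ˣ) : R K V)) hb'
      have e11 : φ c * φ c⁻¹ = 1 := by rw [← map_mul, mul_inv_cancel₀ hc0, map_one]
      simp only [mul_assoc, Units.mul_inv_cancel_left] at e10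
      rw [← mul_assoc (φ c), e11, one_mul, Units.mul_inv, mul_one] at e10
      simp only [mul_assoc]
      exact e10
    obtain ⟨σ'', e10⟩ := e9
    have e11 := C.z_one he h2 hx (inv_ne_zero hc0) e10
    have e12 : Z = 1 := by
      apply Units.ext
      rw [hZ, e11, map_one]; rfl
    rw [e8, e12, map_one]
  · exfalso
    have hf1 := f_one (Or.inr hmul)
    obtain ⟨σ, hσ⟩ := kp_anti hmul hρ hK1
    obtain ⟨σ', hσ'⟩ := kp_anti hmul hρ hK2
    have hmu : IsUnit ((x : R K V) * f (x : R K V)) := by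
      refine x.isUnit.mul (IsUnit.of_mul_eq_one (f ((x⁻¹ : (R K V)ˣ) : R K V)) ?_)
      rw [← hmul, Units.inv_mul, hf1]
    have e1 : ((x * U : (R K V)ˣ) : R K V) * f ((x * U : (R K V)ˣ) : R K V) =
        ((x : R K V) * φ (g * ρ g) * ((x⁻¹ : (R K V)ˣ) : R K V)) * ((x : R K V) * f (x : R K V)) := by
      rw [Units.val_mul, hmul, hU, hρ, map_mul]
      simp only [mul_assoc, Units.inv_mul_cancel_left]
    rw [e1] at hσ'
    have e2 := C.z_one he h2 hx (mul_ne_zero hg0 hρg0) (C.ty_quot hmu hσ hσ')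
    have e3 : ∀ a, a ≠ 0 → a * ρ a = 1 := by
      intro a ha
      rcases hg a with h0 | ⟨k, rfl⟩
      · exact absurd h0 ha
      · rw [map_pow, ← mul_pow, e2, one_pow]
    have hg1 : 1 + g ≠ 0 := by
      intro e
      have e4 : g = 1 := by linear_combination e - h20
      apply hτ
      ext a
      rcases hg a with rfl | ⟨k, rfl⟩
      · simp
      · rw [e4, one_pow, map_one]; rfl
    have e4 := e3 _ hg1
    rw [map_add, map_one] at e4
    have e5 : g * g + g + 1 = 0 := by
      have e6 : g * ((1 + g) * (1 + ρ g)) = g := by rw [e4, mul_one]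
      have e7 : g * ((1 + g) * (1 + ρ g)) = g + g * g + g * ρ g + g * (g * ρ g) := by ring
      rw [e7, e2] at e6
      linear_combination e6
    have e6 : g * g * g = 1 := by linear_combination (g - 1) * e5
    have e7 : (C.τ * C.τ) g = g := by
      rw [AlgEquiv.mul_apply, hτ2, hτ2]
      linear_combination g * e6
    apply hττ
    ext a
    rcases hg a with rfl | ⟨k, rfl⟩
    · simp
    · rw [map_pow, e7]; rfl

end Cy

theorem five_cyc (φ : F →ₐ[K] R K V) (h : finrank K V = finrank K F) (he : (finrank K F).Prime)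
    (S : Subgroup (Equiv.Perm (R K V))) (hS : S ≤ RA K V) (h2 : finrank K V = 2 → S ≤ RP K V ∧ 4 ≤ Nat.card K)
    (hSE : ∀ f ∈ S, ∀ a : F, ∃ b : F, f (φ a) = φ b) : Five S := by
  have := Fintype.ofFinite K
  obtain ⟨C⟩ := exists_cy φ h.symm
  have hV : Nontrivial V := by
    apply nontrivial_of_finrank_pos (R := K)
    rw [h]
    exact he.pos
  have hK : 2 ≤ Nat.card K := by
    rw [Nat.card_eq_fintype_card]
    exact Fintype.one_lt_card
  rcases Nat.lt_or_ge 2 (Nat.card K) with h3 | h3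
  · exact C.five_big h.symm he S hS h2 h3 hSE
  · have h4 : Nat.card K = 2 := le_antisymm h3 hK
    have h5 : finrank K V ≠ 2 := by
      intro e
      have := (h2 e).2
      omega
    have h6 : 3 ≤ finrank K V := by
      have := he.two_le
      omega
    exact C.five_two h.symm he S hS h6 h4 hSE

/-- **L-C3c** (no solvability needed) -/
theorem stmtC3c : Cfsg.Agent.H786.FC.StmtC3c.{u, v} := by
  intro K _ _ V _ _ _ S hS h2 _ E hE hEp hES h
  have : Finite V := Module.finite_of_finite K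
  have : Finite (R K V) := Module.finite_of_finite K
  have : Finite E := inferInstance
  exact @five_cyc K _ _ V _ _ _ E hE.toField _ E.algebra E.val h hEp S hS h2
    (fun f hf a => ⟨⟨f a, hES f hf a a.2⟩, rfl⟩)

end Cfsg.Agent.H245.FC
end

-- part: H920/FC/Key
section
/-!
# S5764 [B-C4]: the key lemma for tensor decompositions (helper920)

`A = M_I(K) ⊗ 1`, `C = 1 ⊗ M_J(K)` in `M_{I × J}(K)`; `F` a ring automorphism with `F A = A`.  If `x = 1 + B ⊗ h`,
`h² = 0 ≠ h`, `B` not scalar, and `x F x⁻¹` maps `A` to `A`, then `F h = c h` and `c F B = B + β` for some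
`c ≠ 0`, `β` in `K`.
-/

set_option autoImplicit false
set_option linter.unusedSectionVars false

namespace Cfsg.Agent.H920.FC

open Matrix
open scoped Kronecker

section key

variable {K : Type*} [Field K] {I J : Type*} [Fintype I] [DecidableEq I] [Fintype J] [DecidableEq J]

theorem kron_inj_left [Nonempty J] {B B' : Matrix I I K} (h : B ⊗ₖ (1 : Matrix J J K) = B' ⊗ₖ (1 : Matrix J J K)) :
    B = B' := by
  obtain ⟨j⟩ := ‹Nonempty J›
  ext i k
  have := congrFun (congrFun h (i, j)) (k, j)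
  simpa [kroneckerMap_apply] using this

theorem kron_inj_right [Nonempty I] {B B' : Matrix J J K} (h : (1 : Matrix I I K) ⊗ₖ B = (1 : Matrix I I K) ⊗ₖ B') :
    B = B' := by
  obtain ⟨j⟩ := ‹Nonempty I›
  ext i k
  have := congrFun (congrFun h (j, i)) (j, k)
  simpa [kroneckerMap_apply] using this

theorem exists_scalar_of_comm {B : Matrix I I K} (h : ∀ a, a * B = B * a) : ∃ k : K, B = k • 1 := by
  obtain ⟨k, hk⟩ := mem_range_scalar_iff_commute_single'.2 fun i j => (h (single i j 1) : Commute (single i j 1) B)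
  exact ⟨k, by rw [← hk]; ext i j; simp [scalar_apply, diagonal_apply, one_apply]⟩

/-- the centralizer of `M_I(K) ⊗ 1` -/
theorem exists_of_comm [Nonempty I] {X : Matrix (I × J) (I × J) K}
    (h : ∀ a : Matrix I I K, (a ⊗ₖ (1 : Matrix J J K)) * X = X * (a ⊗ₖ (1 : Matrix J J K))) :
    ∃ c : Matrix J J K, X = (1 : Matrix I I K) ⊗ₖ c := by
  obtain ⟨p⟩ := ‹Nonempty I›
  refine ⟨Matrix.of fun j l => X (p, j) (p, l), ?_⟩
  have key : ∀ q k j l, X (q, j) (k, l) = if q = k then X (p, j) (p, l) else 0 := by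
    intro q k j l
    have h1 := congrFun (congrFun (h (single p q 1)) (p, j)) (k, l)
    rw [mul_apply, mul_apply, Fintype.sum_prod_type, Fintype.sum_prod_type] at h1
    simp only [kroneckerMap_apply, single_apply, one_apply] at h1
    rw [Finset.sum_eq_single q, Finset.sum_eq_single j, Finset.sum_eq_single p, Finset.sum_eq_single l] at h1
    · simpa using h1
    · intro b _ hb
      simp [hb]
    · simp
    · intro b _ hb
      refine Finset.sum_eq_zero fun y _ => ?_
      simp [hb.symm]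
    · simp
    · intro b _ hb
      simp [hb.symm]
    · simp
    · intro b _ hb
      refine Finset.sum_eq_zero fun y _ => ?_
      simp [hb.symm]
    · simp
  ext ⟨q, j⟩ ⟨k, l⟩
  rw [key, kroneckerMap_apply, one_apply, of_apply]
  split_ifs <;> simp

/-- the parts of an automorphism preserving `M_I(K) ⊗ 1` -/
theorem exists_parts [Finite K] [Nonempty I] [Nonempty J] (F : Matrix (I × J) (I × J) K ≃+* Matrix (I × J) (I × J) K)
    (hA : ∀ B : Matrix I I K, ∃ B' : Matrix I I K, F (B ⊗ₖ (1 : Matrix J J K)) = B' ⊗ₖ (1 : Matrix J J K)) :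
    ∃ (fa : Matrix I I K →+* Matrix I I K) (fc : Matrix J J K →+* Matrix J J K), Function.Bijective fa ∧
      Function.Injective fc ∧
      (∀ B, F (B ⊗ₖ (1 : Matrix J J K)) = fa B ⊗ₖ (1 : Matrix J J K)) ∧
      (∀ c, F ((1 : Matrix I I K) ⊗ₖ c) = (1 : Matrix I I K) ⊗ₖ fc c) := by
  choose fa0 hfa0 using hA
  let fa : Matrix I I K →+* Matrix I I K :=
    { toFun := fa0
      map_zero' := kron_inj_left (J := J) (by rw [← hfa0, zero_kronecker, map_zero])
      map_one' := kron_inj_left (J := J) (by rw [← hfa0, one_kronecker_one, map_one])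
      map_add' := fun X Y => kron_inj_left (J := J) (by
        rw [← hfa0, add_kronecker, map_add, hfa0, hfa0, add_kronecker])
      map_mul' := fun X Y => kron_inj_left (J := J) (by
        have e : ∀ X Y : Matrix I I K, (X * Y) ⊗ₖ (1 : Matrix J J K) =
          (X ⊗ₖ (1 : Matrix J J K)) * (Y ⊗ₖ (1 : Matrix J J K)) := fun X Y => by
            rw [← mul_kronecker_mul, Matrix.one_mul]
        rw [← hfa0, e, map_mul, hfa0, hfa0, e]) }
  have hinj : Function.Injective fa := by
    intro X Y hXY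
    refine kron_inj_left (J := J) (F.injective ?_)
    rw [hfa0, hfa0]
    exact congrArg (fun Z => Z ⊗ₖ (1 : Matrix J J K)) hXY
  have hsur : Function.Surjective fa := Finite.surjective_of_injective hinj
  have hC : ∀ c : Matrix J J K, ∃ c' : Matrix J J K, F ((1 : Matrix I I K) ⊗ₖ c) = (1 : Matrix I I K) ⊗ₖ c' := by
    intro c
    refine exists_of_comm fun a => ?_
    obtain ⟨a, rfl⟩ := hsur a
    have e : fa a ⊗ₖ (1 : Matrix J J K) = F (a ⊗ₖ (1 : Matrix J J K)) := (hfa0 a).symm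
    rw [e, ← map_mul, ← map_mul, ← mul_kronecker_mul, ← mul_kronecker_mul, Matrix.one_mul, Matrix.mul_one,
      Matrix.one_mul, Matrix.mul_one]
  choose fc0 hfc0 using hC
  let fc : Matrix J J K →+* Matrix J J K :=
    { toFun := fc0
      map_zero' := kron_inj_right (I := I) (by rw [← hfc0, kronecker_zero, map_zero])
      map_one' := kron_inj_right (I := I) (by rw [← hfc0, one_kronecker_one, map_one])
      map_add' := fun X Y => kron_inj_right (I := I) (by
        rw [← hfc0, kronecker_add, map_add, hfc0, hfc0, kronecker_add])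
      map_mul' := fun X Y => kron_inj_right (I := I) (by
        have e : ∀ X Y : Matrix J J K, (1 : Matrix I I K) ⊗ₖ (X * Y) =
          ((1 : Matrix I I K) ⊗ₖ X) * ((1 : Matrix I I K) ⊗ₖ Y) := fun X Y => by
            rw [← mul_kronecker_mul, Matrix.one_mul]
        rw [← hfc0, e, map_mul, hfc0, hfc0, e]) }
  refine ⟨fa, fc, ⟨hinj, hsur⟩, ?_, hfa0, hfc0⟩
  intro X Y hXY
  refine kron_inj_right (I := I) (F.injective ?_)
  rw [hfc0, hfc0]
  exact congrArg (fun Z => (1 : Matrix I I K) ⊗ₖ Z) hXY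

/-- conjugation of `a ⊗ 1` by `1 + B ⊗ h` -/
theorem conj_kron {B : Matrix I I K} {h : Matrix J J K} (hh : h * h = 0) (a : Matrix I I K) :
    (1 - B ⊗ₖ h) * (a ⊗ₖ (1 : Matrix J J K)) * (1 + B ⊗ₖ h) =
      a ⊗ₖ (1 : Matrix J J K) + (a * B - B * a) ⊗ₖ h := by
  rw [sub_mul, Matrix.one_mul, mul_add, Matrix.mul_one, sub_mul, ← mul_kronecker_mul, ← mul_kronecker_mul,
    ← mul_kronecker_mul, Matrix.one_mul, Matrix.mul_one, hh, kronecker_zero, sub_zero, sub_eq_add_neg (a * B),
    add_kronecker]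
  have e : (-(B * a)) ⊗ₖ h = -((B * a) ⊗ₖ h) := by
    ext ⟨i, j⟩ ⟨k, l⟩
    simp [kroneckerMap_apply]
  rw [e]
  abel

/-- the block of a sum of tensors -/
theorem blk {X X' : Matrix I I K} {Y Y' : Matrix I I K} {h h' : Matrix J J K}
    (e : X ⊗ₖ (1 : Matrix J J K) + Y ⊗ₖ h = X' ⊗ₖ (1 : Matrix J J K) + Y' ⊗ₖ h') (i k : I) :
    X i k • (1 : Matrix J J K) + Y i k • h = X' i k • (1 : Matrix J J K) + Y' i k • h' := by
  ext j l
  have := congrFun (congrFun e (i, j)) (k, l)
  simpa [kroneckerMap_apply] using this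

/-- **Key lemma.** -/
theorem key [Finite K] [Nonempty I] [Nonempty J] (F : Matrix (I × J) (I × J) K ≃+* Matrix (I × J) (I × J) K)
    {fa : Matrix I I K →+* Matrix I I K} {fc : Matrix J J K →+* Matrix J J K} (hfa : Function.Bijective fa)
    (hfc : Function.Injective fc) {σ : K ≃+* K} (hσ : ∀ (k : K) X, fa (k • X) = σ k • fa X)
    (hFa : ∀ B, F (B ⊗ₖ (1 : Matrix J J K)) = fa B ⊗ₖ (1 : Matrix J J K))
    (hFc : ∀ c, F ((1 : Matrix I I K) ⊗ₖ c) = (1 : Matrix I I K) ⊗ₖ fc c)
    {B : Matrix I I K} {h : Matrix J J K} (hB : ∀ k : K, B ≠ k • 1) (hh : h * h = 0) (h0 : h ≠ 0)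
    (hx : ∀ a : Matrix I I K, ∃ a' : Matrix I I K, (1 + B ⊗ₖ h) *
      F ((1 - B ⊗ₖ h) * (a ⊗ₖ (1 : Matrix J J K)) * (1 + B ⊗ₖ h)) * (1 - B ⊗ₖ h) = a' ⊗ₖ (1 : Matrix J J K)) :
    ∃ c β : K, c ≠ 0 ∧ fc h = c • h ∧ c • fa B = B + β • 1 := by
  have hN : (B ⊗ₖ h) * (B ⊗ₖ h) = 0 := by rw [← mul_kronecker_mul, hh, kronecker_zero]
  have hinv : (1 - B ⊗ₖ h) * (1 + B ⊗ₖ h) = 1 := by
    rw [sub_mul, mul_add, mul_add, hN]
    simp
  have hF : ∀ (X : Matrix I I K) (Y : Matrix J J K), F (X ⊗ₖ Y) = fa X ⊗ₖ fc Y := by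
    intro X Y
    have e : X ⊗ₖ Y = (X ⊗ₖ (1 : Matrix J J K)) * ((1 : Matrix I I K) ⊗ₖ Y) := by
      rw [← mul_kronecker_mul, Matrix.one_mul, Matrix.mul_one]
    rw [e, map_mul, hFa, hFc, ← mul_kronecker_mul, Matrix.one_mul, Matrix.mul_one]
  -- the equation in the blocks
  have heq : ∀ b : Matrix I I K, ∃ a' : Matrix I I K, ∀ i k : I,
      b i k • (1 : Matrix J J K) + (b * fa B - fa B * b) i k • fc h =
        a' i k • (1 : Matrix J J K) + (a' * B - B * a') i k • h := by
    intro b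
    obtain ⟨a, rfl⟩ := hfa.2 b
    obtain ⟨a', ha'⟩ := hx a
    refine ⟨a', fun i k => blk ?_ i k⟩
    rw [conj_kron hh] at ha'
    rw [← conj_kron hh a', ← ha', map_add, hFa, hF, map_sub, map_mul, map_mul]
    have e : ∀ Z : Matrix (I × J) (I × J) K, (1 - B ⊗ₖ h) * ((1 + B ⊗ₖ h) * Z * (1 - B ⊗ₖ h)) * (1 + B ⊗ₖ h) = Z := by
      intro Z
      rw [mul_assoc, mul_assoc, hinv, mul_assoc, ← mul_assoc, hinv]
      simp
    rw [e]
  have hh' : fc h * fc h = 0 := by rw [← map_mul, hh, map_zero]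
  have hc0 : fc h ≠ 0 := fun h' => h0 (hfc (by rw [h', map_zero]))
  -- `fa B` is not central
  obtain ⟨b, hb⟩ : ∃ b, b * fa B ≠ fa B * b := by
    by_contra hcon
    push Not at hcon
    obtain ⟨k, hk⟩ := exists_scalar_of_comm hcon
    refine hB (σ.symm k) (hfa.1 ?_)
    rw [hk, hσ, RingEquiv.apply_symm_apply, map_one]
  obtain ⟨i, k, hik⟩ : ∃ i k, (b * fa B - fa B * b) i k ≠ 0 := by
    by_contra hcon
    push Not at hcon
    exact hb (sub_eq_zero.1 (Matrix.ext hcon))
  obtain ⟨a', ha'⟩ := heq b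
  have h1 := ha' i k
  set t := (b * fa B - fa B * b) i k with ht
  obtain ⟨s, c, hsc⟩ : ∃ s c : K, fc h = s • 1 + c • h := by
    refine ⟨t⁻¹ * (a' i k - b i k), t⁻¹ * (a' * B - B * a') i k, ?_⟩
    have h2 : t • fc h = (a' i k - b i k) • (1 : Matrix J J K) + (a' * B - B * a') i k • h := by
      rw [sub_smul, sub_add_eq_add_sub, ← h1]
      abel
    rw [mul_smul, mul_smul, ← smul_add, ← h2, smul_smul, inv_mul_cancel₀ hik, one_smul]
  have hs : s = 0 := by
    by_contra hs
    have h3 : fc h - s • 1 = c • h := by rw [hsc]; abel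
    have h4 : (fc h - s • 1) * (fc h - s • 1) = 0 := by
      rw [h3, smul_mul_smul_comm, hh, smul_zero]
    have h5 : s • s • (1 : Matrix J J K) = (2 * s) • fc h := by
      have : (fc h - s • (1 : Matrix J J K)) * (fc h - s • (1 : Matrix J J K)) =
          fc h * fc h - (2 * s) • fc h + s • s • (1 : Matrix J J K) := by
        rw [sub_mul, mul_sub, mul_sub]
        simp only [smul_mul_assoc, mul_smul_comm, Matrix.one_mul, Matrix.mul_one]
        rw [two_mul, add_smul]
        abel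
      rw [this, hh', zero_sub, neg_add_eq_zero] at h4
      exact h4.symm
    have h6 : (s • s • (1 : Matrix J J K)) * fc h = 0 := by
      rw [h5, smul_mul_assoc, hh', smul_zero]
    rw [smul_smul, smul_mul_assoc, Matrix.one_mul] at h6
    exact (smul_ne_zero (mul_ne_zero hs hs) hc0) h6
  rw [hs, zero_smul, zero_add] at hsc
  have hc : c ≠ 0 := by
    rintro rfl
    rw [zero_smul] at hsc
    exact hc0 hsc
  -- comparison of the coefficients
  have hcoef : ∀ x y : K, x • (1 : Matrix J J K) + y • h = 0 → x = 0 ∧ y = 0 := by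
    intro x y hxy
    have h2 : x • h = 0 := by
      have := congrArg (fun Z => Z * h) hxy
      simpa [add_mul, smul_mul_assoc, hh] using this
    have hx0 : x = 0 := (smul_eq_zero.1 h2).resolve_right h0
    refine ⟨hx0, ?_⟩
    rw [hx0, zero_smul, zero_add] at hxy
    exact (smul_eq_zero.1 hxy).resolve_right h0
  have hcomm : ∀ b, b * (c • fa B - B) = (c • fa B - B) * b := by
    intro b
    obtain ⟨a', ha'⟩ := heq b
    have h2 : ∀ i k, b i k = a' i k ∧ (c • (b * fa B - fa B * b)) i k = (a' * B - B * a') i k := by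
      intro i k
      have h3 := ha' i k
      rw [hsc] at h3
      have h4 := hcoef (b i k - a' i k) (c * (b * fa B - fa B * b) i k - (a' * B - B * a') i k) (by
        rw [sub_smul, sub_smul, mul_comm c, mul_smul]
        have : b i k • (1 : Matrix J J K) - a' i k • (1 : Matrix J J K) +
          ((b * fa B - fa B * b) i k • c • h - (a' * B - B * a') i k • h) =
            (b i k • (1 : Matrix J J K) + (b * fa B - fa B * b) i k • c • h) -
              (a' i k • (1 : Matrix J J K) + (a' * B - B * a') i k • h) := by abel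
        rw [this, h3, sub_self])
      refine ⟨sub_eq_zero.1 h4.1, ?_⟩
      rw [Matrix.smul_apply, smul_eq_mul]
      exact sub_eq_zero.1 h4.2
    have e1 : b = a' := Matrix.ext fun i k => (h2 i k).1
    have e2 : c • (b * fa B - fa B * b) = a' * B - B * a' := Matrix.ext fun i k => (h2 i k).2
    rw [← e1] at e2
    rw [mul_sub, sub_mul, mul_smul_comm, smul_mul_assoc, sub_eq_sub_iff_sub_eq_sub, ← smul_sub]
    exact e2
  obtain ⟨β, hβ⟩ := exists_scalar_of_comm hcomm
  exact ⟨c, β, hc, hsc, by rw [← hβ]; abel⟩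

end key

end Cfsg.Agent.H920.FC
end

-- part: H920/FC/Red
section
/-!
# S5764 [B-C4]: `FiveB` from four pairs of matrices (helper920)

`Good B h`: an automorphism `fa ⊗ fc` of `M_I(K) ⊗ M_J(K)` with `fc h_i = c_i h_i`, `c_i fa B_i = B_i + β_i` for
`i = 1, …, 4` is trivial.
-/

set_option autoImplicit false
set_option linter.unusedSectionVars false

namespace Cfsg.Agent.H920.FC

open Matrix Cfsg.Agent.H198.FC
open scoped Kronecker

universe u v w

section good

variable {K : Type u} [Field K] {I J : Type*} [Fintype I] [DecidableEq I] [Fintype J] [DecidableEq J]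

/-- the matrix condition -/
def Good (B : Fin 4 → Matrix I I K) (h : Fin 4 → Matrix J J K) : Prop :=
  ∀ (fa : Matrix I I K →+* Matrix I I K) (fc : Matrix J J K →+* Matrix J J K) (σ : K ≃+* K),
    Function.Bijective fa → Function.Injective fc → (∀ (k : K) X, fa (k • X) = σ k • fa X) →
    (∀ (k : K) X, fc (k • X) = σ k • fc X) →
    (∀ i, ∃ c β : K, c ≠ 0 ∧ fc (h i) = c • h i ∧ c • fa (B i) = B i + β • 1) →
    (∀ X, fa X = X) ∧ (∀ X, fc X = X)

end good

section red

variable {K : Type u} [Field K] {V : Type v} [AddCommGroup V] [Module K V]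
  {I J : Type*} [Fintype I] [DecidableEq I] [Fintype J] [DecidableEq J]

/-- a ring automorphism of `R` as a ring automorphism of the matrix algebra -/
def toF (Ψ : Matrix (I × J) (I × J) K ≃ₐ[K] R K V) {f : Equiv.Perm (R K V)} (hf : f ∈ RP K V) :
    Matrix (I × J) (I × J) K ≃+* Matrix (I × J) (I × J) K where
  toFun X := Ψ.symm (f (Ψ X))
  invFun X := Ψ.symm (f.symm (Ψ X))
  left_inv X := by simp
  right_inv X := by simp
  map_add' X Y := by rw [map_add, hf.1, map_add]
  map_mul' X Y := by rw [map_mul, hf.2, map_mul]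

theorem toF_apply (Ψ : Matrix (I × J) (I × J) K ≃ₐ[K] R K V) {f : Equiv.Perm (R K V)} (hf : f ∈ RP K V)
    (X : Matrix (I × J) (I × J) K) : toF Ψ hf X = Ψ.symm (f (Ψ X)) := rfl

/-- the unit `1 + N`, `N² = 0` -/
def un {A : Type*} [Ring A] (N : A) (hN : N * N = 0) : Aˣ where
  val := 1 + N
  inv := 1 - N
  val_inv := by rw [mul_sub, add_mul, add_mul, hN]; simp
  inv_val := by rw [mul_add, sub_mul, sub_mul, hN]; simp

theorem isom_one_add {b : Cl K V} {N : R K V} (hN : N * N = 0) (hadj : b.Adj N (-N)) : b.Isom (1 + N) := by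
  intro v w
  have h1 := hadj v w
  have h2 := hadj v (N w)
  have e1 : (-N : R K V) (N w) = 0 := by
    have : (N * N) w = 0 := by rw [hN]; rfl
    rw [LinearMap.neg_apply]
    change -(N * N) w = 0
    rw [this, neg_zero]
  have e2 : ∀ v, b.B v 0 = 0 := H412.FC.B_zero_right b
  rw [e1, e2] at h2
  have e3 : b.B v ((-N : R K V) w) = - b.B v (N w) := by
    have := b.add_right v ((-N : R K V) w) (N w)
    rw [LinearMap.neg_apply, neg_add_cancel, e2] at this
    rw [LinearMap.neg_apply]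
    exact (neg_eq_of_add_eq_zero_left this.symm).symm
  change b.B (v + N v) (w + N w) = b.B v w
  rw [b.add_left, b.add_right, b.add_right, h1, h2, e3]
  ring

theorem fiveB_of_good [Finite K] [Module.Finite K V] (b : Cl K V) (hn : 1 ≤ Module.finrank K V)
    [Nonempty I] [Nonempty J] (Ψ : Matrix (I × J) (I × J) K ≃ₐ[K] R K V) {S : Subgroup (Equiv.Perm (R K V))}
    (hS : S ≤ RB b)
    (hA : ∀ f ∈ S, ∀ B : Matrix I I K, ∃ B' : Matrix I I K,
      f (Ψ (B ⊗ₖ (1 : Matrix J J K))) = Ψ (B' ⊗ₖ (1 : Matrix J J K)))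
    (B : Fin 4 → Matrix I I K) (h : Fin 4 → Matrix J J K) (hB : ∀ i (k : K), B i ≠ k • 1)
    (hh : ∀ i, h i * h i = 0) (h0 : ∀ i, h i ≠ 0)
    (hadj : ∀ i, b.Adj (Ψ (B i ⊗ₖ h i)) (-Ψ (B i ⊗ₖ h i))) (hG : Good B h) : FiveB b S := by
  have hNN : ∀ i, (B i ⊗ₖ h i) * (B i ⊗ₖ h i) = 0 := fun i => by
    rw [← mul_kronecker_mul, hh, kronecker_zero]
  have hN : ∀ i, Ψ (B i ⊗ₖ h i) * Ψ (B i ⊗ₖ h i) = 0 := fun i => by
    rw [← map_mul, hNN, map_zero]
  refine ⟨fun i => un (Ψ (B i ⊗ₖ h i)) (hN i), fun i => H567.FC.det_one_add (hN i), fun i =>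
    isom_one_add (hN i) (hadj i), fun f hf hi => ?_⟩
  have hfR := (hS hf).1
  obtain ⟨g, σ, μ, -, -, hgs, -, hgf⟩ := H412.FC.stmtBSN K V b hn f (hS hf)
  obtain ⟨fa, fc, hfa, hfc, hFa, hFc⟩ := exists_parts (toF Ψ hfR) (fun B => by
    obtain ⟨B', hB'⟩ := hA f hf B
    exact ⟨B', by rw [toF_apply, hB', AlgEquiv.symm_apply_apply]⟩)
  have hFs : ∀ (k : K) X, toF Ψ hfR (k • X) = σ k • toF Ψ hfR X := by
    intro k X
    rw [toF_apply, toF_apply, ← map_smul]
    congr 1
    refine LinearMap.ext fun v => ?_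
    obtain ⟨w, rfl⟩ := g.surjective v
    rw [hgf, LinearMap.smul_apply, hgf, map_smul, LinearMap.smul_apply, hgs]
  have hsa : ∀ (k : K) X, fa (k • X) = σ k • fa X := fun k X => kron_inj_left (J := J) (by
    rw [smul_kronecker, ← hFa, ← hFa, smul_kronecker, hFs])
  have hsc : ∀ (k : K) X, fc (k • X) = σ k • fc X := fun k X => kron_inj_right (I := I) (by
    rw [kronecker_smul, ← hFc, ← hFc, kronecker_smul, hFs])
  have hres := hG fa fc σ hfa hfc hsa hsc (fun i => by
    refine key (toF Ψ hfR) hfa hfc hsa hFa hFc (hB i) (hh i) (h0 i) fun a => ?_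
    obtain ⟨a', ha'⟩ := hA _ (hi i) a
    refine ⟨a', ?_⟩
    have e : ((cj K V (un (Ψ (B i ⊗ₖ h i)) (hN i))) * f * (cj K V (un (Ψ (B i ⊗ₖ h i)) (hN i)))⁻¹)
        (Ψ (a ⊗ₖ (1 : Matrix J J K))) = (1 + Ψ (B i ⊗ₖ h i)) * f ((1 - Ψ (B i ⊗ₖ h i)) *
          Ψ (a ⊗ₖ (1 : Matrix J J K)) * (1 + Ψ (B i ⊗ₖ h i))) * (1 - Ψ (B i ⊗ₖ h i)) := by
      rw [Equiv.Perm.mul_apply, Equiv.Perm.mul_apply, ← map_inv, cj_apply, cj_apply, inv_inv]
      rfl
    rw [e] at ha'
    have e2 : Ψ ((1 - B i ⊗ₖ h i) * (a ⊗ₖ (1 : Matrix J J K)) * (1 + B i ⊗ₖ h i)) = (1 - Ψ (B i ⊗ₖ h i)) *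
        Ψ (a ⊗ₖ (1 : Matrix J J K)) * (1 + Ψ (B i ⊗ₖ h i)) := by
      rw [map_mul, map_mul, map_add, map_sub, map_one]
    apply Ψ.injective
    rw [← ha', map_mul, map_mul, toF_apply, AlgEquiv.apply_symm_apply, e2, map_add, map_sub, map_one])
  refine Equiv.ext fun X => ?_
  obtain ⟨Y, rfl⟩ := Ψ.surjective X
  have hY : toF Ψ hfR Y = Y := by
    have h1 : ∀ (a : Matrix I I K) (c : Matrix J J K), toF Ψ hfR (a ⊗ₖ c) = a ⊗ₖ c := by
      intro a c
      have e : a ⊗ₖ c = (a ⊗ₖ (1 : Matrix J J K)) * ((1 : Matrix I I K) ⊗ₖ c) := by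
        rw [← mul_kronecker_mul, Matrix.one_mul, Matrix.mul_one]
      rw [e, map_mul, hFa, hFc, hres.1, hres.2]
    have h2 : Y = ∑ i : I, ∑ k : I, ∑ j : J, ∑ l : J,
        (single i k (1 : K)) ⊗ₖ (single j l (Y (i, j) (k, l))) := by
      ext ⟨i, j⟩ ⟨k, l⟩
      simp only [Matrix.sum_apply, kroneckerMap_apply, single_apply]
      rw [Finset.sum_eq_single i, Finset.sum_eq_single k, Finset.sum_eq_single j, Finset.sum_eq_single l]
      · simp
      · intro x _ hx
        simp [hx]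
      · simp
      · intro x _ hx
        refine Finset.sum_eq_zero fun y _ => ?_
        simp [hx]
      · simp
      · intro x _ hx
        refine Finset.sum_eq_zero fun y _ => Finset.sum_eq_zero fun z _ => ?_
        simp [hx]
      · simp
      · intro x _ hx
        refine Finset.sum_eq_zero fun y _ => Finset.sum_eq_zero fun z _ => Finset.sum_eq_zero fun t _ => ?_
        simp [hx]
      · simp
    rw [h2]
    simp only [map_sum, h1]
  rw [toF_apply] at hY
  have := congrArg Ψ hY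
  rwa [AlgEquiv.apply_symm_apply] at this

/-- an automorphism stabilizing `Ψ(M_I(K) ⊗ 1)` stabilizes `Ψ(1 ⊗ M_J(K))` -/
theorem stab_right [Finite K] [Nonempty I] [Nonempty J] (Ψ : Matrix (I × J) (I × J) K ≃ₐ[K] R K V)
    {f : Equiv.Perm (R K V)} (hf : f ∈ RP K V)
    (hA : ∀ B : Matrix I I K, ∃ B' : Matrix I I K,
      f (Ψ (B ⊗ₖ (1 : Matrix J J K))) = Ψ (B' ⊗ₖ (1 : Matrix J J K))) (c : Matrix J J K) :
    ∃ c' : Matrix J J K, f (Ψ ((1 : Matrix I I K) ⊗ₖ c)) = Ψ ((1 : Matrix I I K) ⊗ₖ c') := by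
  obtain ⟨fa, fc, hfa, hfc, hFa, hFc⟩ := exists_parts (toF Ψ hf) (fun B => by
    obtain ⟨B', hB'⟩ := hA B
    exact ⟨B', by rw [toF_apply, hB', AlgEquiv.symm_apply_apply]⟩)
  refine ⟨fc c, ?_⟩
  rw [← hFc, toF_apply, AlgEquiv.apply_symm_apply]

end red

end Cfsg.Agent.H920.FC
end

-- part: H920/FC/Path
section
/-!
# S5764 [B-C4U]: the path matrix and the first tensor factor (helper920)

`pth K m` the adjacency matrix of the path with `m` vertices.  `path_mem`: a column generates the others.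
`sideA`: for `B = (E₀₀, P, P + E₀₀, E₀₀ + ω E₀₁ + ω' E₁₀)` and dimension at least 3, the relations
`c_i fa B_i = B_i + β_i` force `fa = 1`, `σ = 1`, `c_i = 1`.
-/

set_option autoImplicit false
set_option linter.unusedSectionVars false

namespace Cfsg.Agent.H920.FC

open Matrix
open scoped Kronecker

section path

variable (K : Type*) [Field K]

/-- the path matrix -/
def pth (m : ℕ) : Matrix (Fin m) (Fin m) K := Matrix.of fun i j => if (i : ℕ) + 1 = j ∨ (j : ℕ) + 1 = i then 1 else 0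

variable {K}

theorem pth_apply {m : ℕ} (i j : Fin m) : pth K m i j = if (i : ℕ) + 1 = j ∨ (j : ℕ) + 1 = i then 1 else 0 := rfl

theorem pth_symm {m : ℕ} (i j : Fin m) : pth K m i j = pth K m j i := by
  rw [pth_apply, pth_apply]
  congr 1
  exact propext or_comm

theorem pth_transpose (m : ℕ) : (pth K m)ᵀ = pth K m := by
  ext i j
  rw [transpose_apply, pth_symm]

theorem pth_map {m : ℕ} (τ : K ≃+* K) : (pth K m).map τ = pth K m := by
  ext i j
  rw [map_apply, pth_apply]
  split_ifs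
  · rw [map_one]
  · rw [map_zero]

variable {M : Type*} [AddCommGroup M] [Module K M]

theorem pth_sum_succ {m : ℕ} (f : Fin m → M) (i : ℕ) (h : i + 2 < m) :
    ∑ k, pth K m k ⟨i + 1, by omega⟩ • f k = f ⟨i + 2, h⟩ + f ⟨i, by omega⟩ := by
  rw [Finset.sum_eq_add (⟨i + 2, h⟩ : Fin m) (⟨i, by omega⟩ : Fin m)]
  · rw [pth_apply, if_pos (Or.inr rfl), pth_apply, if_pos (Or.inl rfl), one_smul, one_smul]
  · intro h'
    have := congrArg Fin.val h'
    simp at this
  · rintro k - ⟨h1, h2⟩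
    rw [pth_apply, if_neg, zero_smul]
    rintro (h3 | h3)
    · exact h2 (Fin.ext (by simpa using h3))
    · exact h1 (Fin.ext (by simpa using h3.symm))
  · intro h'
    exact absurd (Finset.mem_univ _) h'
  · intro h'
    exact absurd (Finset.mem_univ _) h'

theorem pth_sum_zero {m : ℕ} (f : Fin m → M) (h : 1 < m) :
    ∑ k, pth K m k ⟨0, by omega⟩ • f k = f ⟨1, h⟩ := by
  rw [Finset.sum_eq_single (⟨1, h⟩ : Fin m)]
  · rw [pth_apply, if_pos (Or.inr rfl), one_smul]
  · rintro k - h1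
    rw [pth_apply, if_neg, zero_smul]
    rintro (h3 | h3)
    · simp at h3
    · exact h1 (Fin.ext (by simpa using h3.symm))
  · intro h'
    exact absurd (Finset.mem_univ _) h'

/-- the columns are obtained from the first one -/
theorem path_mem {m : ℕ} (𝓢 : AddSubgroup M) (L : M → M) (hL : ∀ x ∈ 𝓢, L x ∈ 𝓢) (f : Fin m → M)
    (hf : ∀ i, L (f i) = ∑ k, pth K m k i • f k) (h0 : ∀ h : 0 < m, f ⟨0, h⟩ ∈ 𝓢) : ∀ i, f i ∈ 𝓢 := by
  have h1 : ∀ i, ∀ h : i < m, f ⟨i, h⟩ ∈ 𝓢 := by
    intro i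
    induction i using Nat.strong_induction_on with
    | _ i ih =>
      intro h
      rcases i with _ | _ | i
      · exact h0 h
      · rw [← pth_sum_zero (K := K) f h, ← hf]
        exact hL _ (h0 (by omega))
      · have h2 := pth_sum_succ (K := K) f i h
        rw [← hf] at h2
        have h3 : f ⟨i + 2, h⟩ = L (f ⟨i + 1, by omega⟩) - f ⟨i, by omega⟩ := by rw [h2]; abel
        rw [h3]
        exact sub_mem (hL _ (ih (i + 1) (by omega) (by omega))) (ih i (by omega) (by omega))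
  intro i
  exact h1 i.1 i.2

end path

section side

variable {K : Type*} [Field K]

theorem sandwich {X : Type*} [Fintype X] [DecidableEq X] (x : X) (M : Matrix X X K) :
    single x x (1 : K) * M * single x x (1 : K) = M x x • single x x (1 : K) := by
  rw [single_mul_mul_single, one_mul, mul_one, smul_single, smul_eq_mul, mul_one]

theorem mul_single_eq {X : Type*} [Fintype X] [DecidableEq X] (M : Matrix X X K) (x y : X) :
    M * single x y (1 : K) = ∑ z, M z x • single z y (1 : K) := by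
  ext i j
  rw [Matrix.sum_apply]
  by_cases hj : j = y
  · subst hj
    rw [mul_single_apply_same, mul_one, Finset.sum_eq_single i]
    · simp
    · intro z _ hz
      simp [hz]
    · simp
  · rw [mul_single_apply_of_ne _ _ _ _ _ hj]
    refine (Finset.sum_eq_zero fun z _ => ?_).symm
    simp [Ne.symm hj]

theorem single_mul_eq {X : Type*} [Fintype X] [DecidableEq X] (M : Matrix X X K) (x y : X) :
    single x y (1 : K) * M = ∑ z, M y z • single x z (1 : K) := by
  ext i j
  rw [Matrix.sum_apply]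
  by_cases hi : i = x
  · subst hi
    rw [single_mul_apply_same, one_mul, Finset.sum_eq_single j]
    · simp
    · intro z _ hz
      simp [hz]
    · simp
  · rw [single_mul_apply_of_ne _ _ _ _ _ hi]
    refine (Finset.sum_eq_zero fun z _ => ?_).symm
    simp [Ne.symm hi]

theorem fix_all {X : Type*} [Fintype X] [DecidableEq X] {f : Matrix X X K →+* Matrix X X K}
    (hs : ∀ (k : K) M, f (k • M) = k • f M) (h : ∀ x y, f (single x y 1) = single x y 1) (M : Matrix X X K) :
    f M = M := by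
  conv_lhs => rw [matrix_eq_sum_single M]
  conv_rhs => rw [matrix_eq_sum_single M]
  rw [map_sum]
  refine Finset.sum_congr rfl fun x _ => ?_
  rw [map_sum]
  refine Finset.sum_congr rfl fun y _ => ?_
  have e : single x y (M x y) = M x y • single x y (1 : K) := by rw [smul_single, smul_eq_mul, mul_one]
  rw [e, hs, h]

variable {u : ℕ} (hu : 3 ≤ u)

/-- the four matrices on the first factor -/
def BA (ω ω' : K) : Fin 4 → Matrix (Fin u) (Fin u) K :=
  ![single (Fin.castLE hu 0) (Fin.castLE hu 0) 1, pth K u, pth K u + single (Fin.castLE hu 0) (Fin.castLE hu 0) 1,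
    single (Fin.castLE hu 0) (Fin.castLE hu 0) 1 + ω • single (Fin.castLE hu 0) (Fin.castLE hu 1) 1 +
      ω' • single (Fin.castLE hu 1) (Fin.castLE hu 0) 1]

theorem pth_fix {m : ℕ} (h0 : 0 < m) {f : Matrix (Fin m) (Fin m) K →+* Matrix (Fin m) (Fin m) K}
    (hE : f (single ⟨0, h0⟩ ⟨0, h0⟩ 1) = single ⟨0, h0⟩ ⟨0, h0⟩ 1) (hP : f (pth K m) = pth K m) (x y : Fin m) :
    f (single x y 1) = single x y 1 := by
  let 𝓢 : AddSubgroup (Matrix (Fin m) (Fin m) K) :=
    (f : Matrix (Fin m) (Fin m) K →+ Matrix (Fin m) (Fin m) K).eqLocus (AddMonoidHom.id _)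
  have h1 : ∀ x : Fin m, single x ⟨0, h0⟩ (1 : K) ∈ 𝓢 := by
    refine path_mem (K := K) 𝓢 (fun M => pth K m * M) (fun M hM => ?_) _ (fun i => ?_) (fun _ => hE)
    · have : f M = M := hM
      change f (pth K m * M) = pth K m * M
      rw [map_mul, hP, this]
    · exact mul_single_eq _ _ _
  have h2 : ∀ x : Fin m, single ⟨0, h0⟩ x (1 : K) ∈ 𝓢 := by
    refine path_mem (K := K) 𝓢 (fun M => M * pth K m) (fun M hM => ?_) (fun x => single (⟨0, h0⟩ : Fin m) x (1 : K))
      (fun i => ?_) (fun _ => hE)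
    · have : f M = M := hM
      change f (M * pth K m) = M * pth K m
      rw [map_mul, hP, this]
    · rw [single_mul_eq]
      exact Finset.sum_congr rfl fun k _ => by rw [pth_symm]
  have e : single x y (1 : K) = single x ⟨0, h0⟩ 1 * single ⟨0, h0⟩ y 1 := by
    rw [single_mul_single_same, one_mul]
  have h3 : f (single x ⟨0, h0⟩ 1) = single x ⟨0, h0⟩ 1 := h1 x
  have h4 : f (single ⟨0, h0⟩ y 1) = single ⟨0, h0⟩ y 1 := h2 y
  rw [e, map_mul, h3, h4]

/-- the consequences of a relation for the idempotent `E₀₀` -/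
theorem idem_rel {X : Type*} [Fintype X] [DecidableEq X] {x y : X} (hxy : x ≠ y)
    {f : Matrix X X K →+* Matrix X X K} {c β : K} (hc : c ≠ 0)
    (h : c • f (single x x 1) = single x x 1 + β • 1) :
    (c = 1 ∧ β = 0 ∧ f (single x x 1) = single x x 1) ∨ (c = -1 ∧ β = -1 ∧ f (single x x 1) = 1 - single x x 1) := by
  have h1 : (c • f (single x x 1)) * (c • f (single x x 1)) = c • (c • f (single x x 1)) := by
    rw [smul_mul_smul_comm, ← map_mul, single_mul_single_same, one_mul, mul_smul]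
  rw [h] at h1
  have h2 : (single x x (1 : K) + β • (1 : Matrix X X K)) * (single x x (1 : K) + β • (1 : Matrix X X K)) =
      single x x (1 : K) + (2 * β) • single x x (1 : K) + (β * β) • (1 : Matrix X X K) := by
    rw [add_mul, mul_add, mul_add, single_mul_single_same, one_mul, mul_smul_comm, Matrix.mul_one, smul_mul_assoc,
      Matrix.one_mul, smul_mul_smul_comm, Matrix.one_mul, two_mul, add_smul]
    abel
  rw [h2] at h1
  have hyy := congrFun (congrFun h1 y) y
  have hxx := congrFun (congrFun h1 x) x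
  simp only [Matrix.add_apply, Matrix.smul_apply, smul_eq_mul, one_apply_eq, mul_one, single_apply_same,
    single_apply_of_row_ne hxy, mul_zero, zero_add] at hyy hxx
  by_cases hβ : β = 0
  · subst hβ
    have hc1 : c = 1 := by
      simp only [mul_zero, add_zero, mul_one] at hxx
      exact hxx.symm
    left
    refine ⟨hc1, rfl, ?_⟩
    rw [hc1, one_smul, zero_smul, add_zero] at h
    exact h
  · have hcb : β = c := mul_right_cancel₀ hβ hyy
    subst hcb
    have h3 : (1 + β) = 0 := by linear_combination hxx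
    have h4 : β = -1 := by linear_combination h3
    right
    refine ⟨h4, h4, ?_⟩
    rw [h4, neg_one_smul, neg_one_smul] at h
    rw [← neg_neg (f (single x x 1)), h]
    abel

theorem corner {X : Type*} [Fintype X] [DecidableEq X] {x : X} {f : Matrix X X K →+* Matrix X X K}
    (hE : f (single x x 1) = single x x 1) {σ : K ≃+* K} (hs : ∀ (k : K) M, f (k • M) = σ k • f M)
    {c β : K} {M : Matrix X X K} (h : c • f M = M + β • 1) : c * σ (M x x) = M x x + β := by
  have h1 := congrArg (fun Z => single x x (1 : K) * Z * single x x (1 : K)) h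
  simp only [mul_smul_comm, smul_mul_assoc, mul_add, add_mul, Matrix.mul_one, single_mul_single_same] at h1
  have h2 : single x x (1 : K) * f M * single x x (1 : K) = σ (M x x) • single x x (1 : K) := by
    rw [← hE, ← map_mul, ← map_mul, sandwich, hs]
  rw [h2, sandwich] at h1
  have h3 := congrFun (congrFun h1 x) x
  simpa using h3

include hu in
theorem sideA {ω ω' : K} (hgen : ∀ σ : K ≃+* K, σ ω = ω → σ = RingEquiv.refl K)
    {fa : Matrix (Fin u) (Fin u) K →+* Matrix (Fin u) (Fin u) K} {σ : K ≃+* K} (hfa : Function.Bijective fa)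
    (hs : ∀ (k : K) X, fa (k • X) = σ k • fa X) {c β : Fin 4 → K} (hc : ∀ i, c i ≠ 0)
    (h : ∀ i, c i • fa (BA hu ω ω' i) = BA hu ω ω' i + β i • 1) :
    (∀ i, c i = 1) ∧ σ = RingEquiv.refl K ∧ ∀ X, fa X = X := by
  set e0 : Fin u := Fin.castLE hu 0 with he0
  set e1 : Fin u := Fin.castLE hu 1 with he1
  set e2 : Fin u := Fin.castLE hu 2 with he2
  have h01 : e0 ≠ e1 := (Fin.castLE_injective hu).ne (by decide)
  have h02 : e0 ≠ e2 := (Fin.castLE_injective hu).ne (by decide)
  have h12 : e1 ≠ e2 := (Fin.castLE_injective hu).ne (by decide)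
  have q0 : c 0 • fa (single e0 e0 1) = single e0 e0 1 + β 0 • 1 := h 0
  have q1 : c 1 • fa (pth K u) = pth K u + β 1 • 1 := h 1
  have q2 : c 2 • fa (pth K u + single e0 e0 1) = pth K u + single e0 e0 1 + β 2 • 1 := h 2
  have q3 : c 3 • fa (single e0 e0 1 + ω • single e0 e1 1 + ω' • single e1 e0 1) =
    single e0 e0 1 + ω • single e0 e1 1 + ω' • single e1 e0 1 + β 3 • 1 := h 3
  have hP00 : pth K u e0 e0 = 0 := by rw [pth_apply, if_neg]; omega
  have hP01 : pth K u e0 e1 = 1 := by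
    rw [pth_apply, if_pos]
    left
    simp [he0, he1]
  have hP11 : pth K u e1 e1 = 0 := by rw [pth_apply, if_neg]; omega
  obtain ⟨c0, hE⟩ : c 0 = 1 ∧ fa (single e0 e0 1) = single e0 e0 1 := by
    rcases idem_rel h01 (hc 0) q0 with h' | h'
    · exact ⟨h'.1, h'.2.2⟩
    exfalso
    obtain ⟨X, hX⟩ := hfa.2 (single e1 e2 1)
    obtain ⟨Y, hY⟩ := hfa.2 (single e2 e1 1)
    have r1 : (single e0 e0 (1 : K) * X * single e0 e0 (1 : K)) * (single e0 e0 (1 : K) * Y * single e0 e0 (1 : K)) =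
        (single e0 e0 (1 : K) * Y * single e0 e0 (1 : K)) * (single e0 e0 (1 : K) * X * single e0 e0 (1 : K)) := by
      rw [sandwich, sandwich, smul_mul_smul_comm, smul_mul_smul_comm, mul_comm]
    have r2 := congrArg fa r1
    simp only [map_mul, h'.2.2, hX, hY] at r2
    have z1 : (1 - single e0 e0 (1 : K)) * single e1 e2 (1 : K) * (1 - single e0 e0 (1 : K)) = single e1 e2 1 := by
      rw [sub_mul, Matrix.one_mul, single_mul_single_of_ne _ _ _ _ h01, sub_zero, mul_sub, Matrix.mul_one,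
        single_mul_single_of_ne _ _ _ _ h02.symm, sub_zero]
    have z2 : (1 - single e0 e0 (1 : K)) * single e2 e1 (1 : K) * (1 - single e0 e0 (1 : K)) = single e2 e1 1 := by
      rw [sub_mul, Matrix.one_mul, single_mul_single_of_ne _ _ _ _ h02, sub_zero, mul_sub, Matrix.mul_one,
        single_mul_single_of_ne _ _ _ _ h01.symm, sub_zero]
    rw [z1, z2, single_mul_single_same, single_mul_single_same] at r2
    have r3 := congrFun (congrFun r2 e1) e1
    simp [h12.symm] at r3
  have b1 : β 1 = 0 := by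
    have := corner hE hs q1
    rw [hP00, map_zero, mul_zero, zero_add] at this
    exact this.symm
  rw [b1, zero_smul, add_zero] at q1
  have q2' : c 2 • pth K u + (c 1 * c 2) • single e0 e0 (1 : K) =
      c 1 • pth K u + c 1 • single e0 e0 (1 : K) + (c 1 * β 2) • 1 := by
    have := congrArg (fun Z => c 1 • Z) q2
    simp only [map_add, hE, smul_add, smul_smul] at this
    rw [mul_comm (c 1) (c 2), mul_smul (c 2) (c 1) (fa (pth K u)), q1, mul_comm (c 2) (c 1)] at this
    exact this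
  have w1 := congrFun (congrFun q2' e0) e1
  have w2 := congrFun (congrFun q2' e1) e1
  have w3 := congrFun (congrFun q2' e0) e0
  simp only [Matrix.add_apply, Matrix.smul_apply, smul_eq_mul, one_apply_eq, one_apply_ne h01, mul_one,
    single_apply_same, single_apply_of_row_ne h01, single_apply_of_col_ne _ _ h01, mul_zero, zero_add, add_zero,
    hP00, hP01, hP11] at w1 w2 w3
  have b2 : β 2 = 0 := (mul_eq_zero.1 w2.symm).resolve_left (hc 1)
  rw [b2, mul_zero, add_zero] at w3
  have c2 : c 2 = 1 := mul_left_cancel₀ (hc 1) (by rw [w3, mul_one])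
  have c1 : c 1 = 1 := by rw [← w1, c2]
  rw [c1, one_smul] at q1
  have hfix : ∀ x y, fa (single x y 1) = single x y 1 := pth_fix (by omega) hE q1
  have q3' : c 3 • (single e0 e0 (1 : K) + σ ω • single e0 e1 (1 : K) + σ ω' • single e1 e0 (1 : K)) =
      single e0 e0 1 + ω • single e0 e1 1 + ω' • single e1 e0 1 + β 3 • 1 := by
    rw [← q3, map_add, map_add, hs, hs, hfix, hfix, hfix]
  have v1 := congrFun (congrFun q3' e0) e0
  have v2 := congrFun (congrFun q3' e0) e1
  have v3 := congrFun (congrFun q3' e2) e2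
  simp only [Matrix.add_apply, Matrix.smul_apply, smul_eq_mul, one_apply_eq, one_apply_ne h01, mul_one,
    single_apply_same, single_apply_of_row_ne h02, single_apply_of_row_ne h12,
    single_apply_of_row_ne h01.symm, single_apply_of_col_ne _ _ h01,
    single_apply_of_col_ne _ _ h01.symm, mul_zero, zero_add, add_zero] at v1 v2 v3
  have c3 : c 3 = 1 := by rw [v1, ← v3, add_zero]
  rw [c3, one_mul] at v2
  have hσ := hgen σ v2
  refine ⟨fun i => ?_, hσ, fix_all (fun k M => by rw [hs, hσ]; rfl) hfix⟩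
  fin_cases i
  exacts [c0, c1, c2, c3]

end side

end Cfsg.Agent.H920.FC
end

-- part: H920/FC/HSide
section
/-!
# S5764 [B-C4U]: the second tensor factor (helper920)

Skew-hermitian matrices `h₁, …, h₄` of square 0 whose commutant is `K`.
-/

set_option autoImplicit false
set_option linter.unusedSectionVars false

namespace Cfsg.Agent.H920.FC

open Matrix

theorem map_mul_ring {K : Type*} [Field K] (τ : K ≃+* K) {A B C : Type*} [Fintype B] (M : Matrix A B K)
    (N : Matrix B C K) : (M * N).map τ = M.map τ * N.map τ := by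
  ext i j
  simp [mul_apply]

section orth

variable {K : Type*} [Field K] [Finite K] {τ : K ≃+* K} (hτ : ∃ a, τ a ≠ a) (hτ2 : ∀ a, τ (τ a) = a)
  {X J : Type*} [Fintype X] [DecidableEq X] [Fintype J] [DecidableEq J]

/-- the form of a hermitian matrix -/
noncomputable def frm (τ : K ≃+* K) (S : Matrix X X K) : (X → K) →ₛₗ[(τ : K →+* K)] (X → K) →ₗ[K] K :=
  LinearMap.mk₂'ₛₗ (τ : K →+* K) (RingHom.id K) (fun u v => v ⬝ᵥ (S *ᵥ fun x => τ (u x)))
    (fun u u' v => by
      have : (fun x => τ ((u + u') x)) = (fun x => τ (u x)) + fun x => τ (u' x) := by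
        ext x
        simp
      simp only [this, mulVec_add, dotProduct_add])
    (fun c u v => by
      have : (fun x => τ ((c • u) x)) = τ c • fun x => τ (u x) := by
        ext x
        simp
      simp only [this, mulVec_smul, dotProduct_smul]
      rfl)
    (fun u v v' => by simp only [add_dotProduct])
    (fun c u v => by simp only [smul_dotProduct, RingHom.id_apply])

theorem frm_apply (τ : K ≃+* K) (S : Matrix X X K) (u v : X → K) :
    frm τ S u v = v ⬝ᵥ (S *ᵥ fun x => τ (u x)) := rfl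

include hτ hτ2 in
/-- a hermitian invertible matrix is congruent to the identity -/
theorem exists_orth (hc : Fintype.card X = Fintype.card J) {S S' : Matrix X X K} (hS : (S.map τ)ᵀ = S)
    (hnd : S * S' = 1) : ∃ T : Matrix X J K, Tᵀ * (S * T.map τ) = 1 := by
  have hne : (τ : K →+* K) ≠ RingHom.id K := by
    intro h
    obtain ⟨a, ha⟩ := hτ
    exact ha (DFunLike.congr_fun h a)
  have hdot : ∀ u v : X → K, u ⬝ᵥ (S *ᵥ v) = v ⬝ᵥ (S.map τ *ᵥ u) := by
    intro u v
    rw [dotProduct_mulVec, dotProduct_comm, ← mulVec_transpose]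
    congr 2
    rw [← transpose_transpose (S.map τ), hS]
  have hmap : ∀ (v : X → K), (fun x => τ ((S *ᵥ v) x)) = S.map τ *ᵥ fun x => τ (v x) := by
    intro v
    ext x
    simp only [mulVec, dotProduct, map_sum, map_mul, map_apply]
  obtain ⟨β, hβ⟩ := Cfsg.Agent.ClassicalGeometry.HermOrthonormal.exists_orthonormal_basis (σ := (τ : K →+* K)) hne hτ2
    (frm τ S) ⟨fun u v => by
      rw [frm_apply, frm_apply]
      change τ (v ⬝ᵥ (S *ᵥ fun x => τ (u x))) = _
      have e1 : ∀ a b : X → K, τ (a ⬝ᵥ b) = (fun x => τ (a x)) ⬝ᵥ fun x => τ (b x) := by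
        intro a b
        simp only [dotProduct, map_sum, map_mul]
      rw [e1, hmap]
      simp only [hτ2]
      exact (hdot u _).symm⟩ (fun u hu => by
      have h1 : ∀ v : X → K, v ⬝ᵥ (S *ᵥ fun x => τ (u x)) = 0 := fun v => hu v
      have h2 : (S *ᵥ fun x => τ (u x)) = 0 := by
        ext x
        have := h1 (Pi.single x 1)
        rwa [single_dotProduct, one_mul] at this
      have h3 : (fun x => τ (u x)) = 0 := by
        have h4 : S' * S = 1 := mul_eq_one_comm.1 hnd
        have := congrArg (fun w => S' *ᵥ w) h2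
        simpa [mulVec_mulVec, h4] using this
      ext x
      have := congrFun h3 x
      simpa using this)
  have hcard : Fintype.card J = Module.finrank K (X → K) := by rw [Module.finrank_fintype_fun_eq_card, hc]
  let e : J ≃ Fin (Module.finrank K (X → K)) := Fintype.equivFinOfCardEq hcard
  refine ⟨Matrix.of fun x j => β (e j) x, ?_⟩
  ext i j
  have h1 := hβ (e j) (e i)
  rw [frm_apply] at h1
  have h2 : (((Matrix.of fun x j => β (e j) x : Matrix X J K))ᵀ * (S * (Matrix.of fun x j => β (e j) x : Matrix X J K).map τ)) i j =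
      (β (e i)) ⬝ᵥ (S *ᵥ fun x => τ ((β (e j)) x)) := by
    rw [mul_apply]
    rfl
  rw [h2, h1, one_apply]
  by_cases hij : i = j
  · subst hij
    simp
  · rw [if_neg hij, if_neg]
    exact fun h => hij (e.injective h).symm

include hτ hτ2 in
/-- transport of skew matrices to the orthonormal basis -/
theorem exists_theta (hc : Fintype.card X = Fintype.card J) {S : Matrix X X K} (hS1 : S.map τ = S) (hS2 : Sᵀ = S)
    (hSS : S * S = 1) : ∃ Θ : Matrix X X K ≃ₐ[K] Matrix J J K, ∀ h : Matrix X X K,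
      (h.map τ)ᵀ * S = -(S * h) → ((Θ h).map τ)ᵀ = -Θ h := by
  obtain ⟨T, hT⟩ := exists_orth hτ hτ2 (J := J) hc (S := S) (by rw [hS1, hS2]) hSS
  set T' : Matrix J X K := (T.map τ)ᵀ * S with hT'
  have h1 : T' * T = 1 := by
    have := congrArg Matrix.transpose hT
    rwa [transpose_mul, transpose_mul, transpose_transpose, hS2, transpose_one] at this
  have h2 : T * T' = 1 := (mul_eq_one_comm_of_card_eq J X K hc.symm).1 h1
  let Θ : Matrix X X K ≃ₐ[K] Matrix J J K :=
    { toFun := fun M => T' * M * T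
      invFun := fun M => T * M * T'
      left_inv := fun M => by
        change T * (T' * M * T) * T' = M
        rw [Matrix.mul_assoc, Matrix.mul_assoc (T' * M), h2, Matrix.mul_one, ← Matrix.mul_assoc, h2, Matrix.one_mul]
      right_inv := fun M => by
        change T' * (T * M * T') * T = M
        rw [Matrix.mul_assoc, Matrix.mul_assoc (T * M), h1, Matrix.mul_one, ← Matrix.mul_assoc, h1, Matrix.one_mul]
      map_mul' := fun M N => by
        change T' * (M * N) * T = (T' * M * T) * (T' * N * T)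
        rw [Matrix.mul_assoc T' N T, ← Matrix.mul_assoc (T' * M * T) T', Matrix.mul_assoc (T' * M) T T', h2,
          Matrix.mul_one]
        simp only [Matrix.mul_assoc]
      map_add' := fun M N => by
        change T' * (M + N) * T = T' * M * T + T' * N * T
        rw [Matrix.mul_add, Matrix.add_mul]
      commutes' := fun k => by
        change T' * (algebraMap K (Matrix X X K) k) * T = algebraMap K (Matrix J J K) k
        rw [Algebra.algebraMap_eq_smul_one, Algebra.algebraMap_eq_smul_one, Matrix.mul_smul, Matrix.mul_one,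
          Matrix.smul_mul, h1] }
  refine ⟨Θ, fun h hh => ?_⟩
  change ((T' * h * T).map τ)ᵀ = -(T' * h * T)
  have hττ : (T.map τ).map τ = T := by
    ext i j
    simp [hτ2]
  have e1 : (T'.map τ)ᵀ = S * T := by
    rw [hT', map_mul_ring, transpose_mul, hS1, hS2, ← transpose_map, transpose_transpose, hττ]
  rw [map_mul_ring, map_mul_ring, transpose_mul, transpose_mul, e1, ← Matrix.mul_assoc (h.map τ)ᵀ, hh, Matrix.neg_mul, Matrix.mul_neg,
    Matrix.mul_assoc S, ← Matrix.mul_assoc (T.map τ)ᵀ S, ← hT', ← Matrix.mul_assoc]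

end orth

section model

variable {K : Type*} [Field K]

/-- the index set of a hyperbolic basis with `r` further vectors -/
abbrev XX (m r : ℕ) := (Fin m ⊕ Fin m) ⊕ Fin r

/-- the Gram matrix -/
def Sg (K : Type*) [Field K] (m r : ℕ) : Matrix (XX m r) (XX m r) K := fromBlocks (fromBlocks 0 1 1 0) 0 0 1

theorem Sg_sq (m r : ℕ) : Sg K m r * Sg K m r = 1 := by
  simp [Sg, fromBlocks_multiply, fromBlocks_one]

theorem Sg_map (τ : K ≃+* K) (m r : ℕ) : (Sg K m r).map τ = Sg K m r := by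
  simp [Sg, fromBlocks_map]

theorem Sg_transpose (m r : ℕ) : (Sg K m r)ᵀ = Sg K m r := by
  simp [Sg, fromBlocks_transpose]

/-- a block in the upper right corner -/
def bu {m : ℕ} (r : ℕ) (N : Matrix (Fin m) (Fin m) K) : Matrix (XX m r) (XX m r) K :=
  fromBlocks (fromBlocks 0 N 0 0) 0 0 0

/-- a block in the lower left corner -/
def bl {m : ℕ} (r : ℕ) (N : Matrix (Fin m) (Fin m) K) : Matrix (XX m r) (XX m r) K :=
  fromBlocks (fromBlocks 0 0 N 0) 0 0 0

theorem bu_sq {m : ℕ} (r : ℕ) (N : Matrix (Fin m) (Fin m) K) : bu r N * bu r N = 0 := by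
  simp [bu, fromBlocks_multiply]

theorem bl_sq {m : ℕ} (r : ℕ) (N : Matrix (Fin m) (Fin m) K) : bl r N * bl r N = 0 := by
  simp [bl, fromBlocks_multiply]

theorem bu_skew {τ : K ≃+* K} {ε : K} (hε : τ ε = -ε) {m : ℕ} (r : ℕ) {N : Matrix (Fin m) (Fin m) K}
    (hN : (N.map τ)ᵀ = N) : ((ε • bu r N).map τ)ᵀ * Sg K m r = -(Sg K m r * (ε • bu r N)) := by
  have e : (ε • bu r N).map τ = (-ε) • (bu r (N.map τ)) := by
    ext x y
    rw [map_apply, Matrix.smul_apply, Matrix.smul_apply, smul_eq_mul, smul_eq_mul, map_mul, hε]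
    congr 1
    simp only [bu]
    rcases x with (x | x) | x <;> rcases y with (y | y) | y <;> simp
  rw [e, transpose_smul, Matrix.smul_mul, Matrix.mul_smul, neg_smul]
  congr 2
  simp [bu, Sg, fromBlocks_transpose, fromBlocks_multiply, hN]

theorem bl_skew {τ : K ≃+* K} {ε : K} (hε : τ ε = -ε) {m : ℕ} (r : ℕ) {N : Matrix (Fin m) (Fin m) K}
    (hN : (N.map τ)ᵀ = N) : ((ε • bl r N).map τ)ᵀ * Sg K m r = -(Sg K m r * (ε • bl r N)) := by
  have e : (ε • bl r N).map τ = (-ε) • (bl r (N.map τ)) := by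
    ext x y
    rw [map_apply, Matrix.smul_apply, Matrix.smul_apply, smul_eq_mul, smul_eq_mul, map_mul, hε]
    congr 1
    simp only [bl]
    rcases x with (x | x) | x <;> rcases y with (y | y) | y <;> simp
  rw [e, transpose_smul, Matrix.smul_mul, Matrix.mul_smul, neg_smul]
  congr 2
  simp [bl, Sg, fromBlocks_transpose, fromBlocks_multiply, hN]

/-- the vector `w` -/
def wv {m : ℕ} (r : ℕ) (h0 : 0 < m) (γ : K) : XX m r → K :=
  Sum.elim (Sum.elim (Pi.single ⟨0, h0⟩ 1) (Pi.single ⟨0, h0⟩ γ)) 1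

/-- the functional `b(·, w)` -/
def wf {m : ℕ} (r : ℕ) (h0 : 0 < m) (γ : K) : XX m r → K :=
  Sum.elim (Sum.elim (Pi.single ⟨0, h0⟩ γ) (Pi.single ⟨0, h0⟩ 1)) 1

theorem wf_wv {m : ℕ} (r : ℕ) (h0 : 0 < m) (γ γ' : K) : wf r h0 γ' ⬝ᵥ wv r h0 γ = γ' + γ + r := by
  simp [wf, wv, Fintype.sum_sum_type, dotProduct, Pi.single_apply]

theorem w_sq {m : ℕ} (r : ℕ) (h0 : 0 < m) {γ γ' : K} (h : γ' + γ + r = 0) :
    vecMulVec (wv r h0 γ) (wf r h0 γ') * vecMulVec (wv r h0 γ) (wf r h0 γ') = 0 := by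
  rw [vecMulVec_mul_vecMulVec, wf_wv, h]
  simp

theorem Sg_wv {m : ℕ} (r : ℕ) (h0 : 0 < m) (γ : K) : Sg K m r *ᵥ wv r h0 γ = wf r h0 γ := by
  simp only [Sg, wv, wf, fromBlocks_mulVec, Sum.elim_comp_inl, Sum.elim_comp_inr, one_mulVec, zero_mulVec, zero_add,
    add_zero]

theorem wv_Sg {m : ℕ} (r : ℕ) (h0 : 0 < m) (γ : K) : wv r h0 γ ᵥ* Sg K m r = wf r h0 γ := by
  rw [← Sg_wv, ← mulVec_transpose, Sg_transpose]

theorem w_skew {τ : K ≃+* K} (hτ2 : ∀ a, τ (τ a) = a) {ε : K} (hε : τ ε = -ε) {m : ℕ} (r : ℕ) (h0 : 0 < m) (γ : K) :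
    ((ε • vecMulVec (wv r h0 γ) (wf r h0 (τ γ))).map τ)ᵀ * Sg K m r =
      -(Sg K m r * (ε • vecMulVec (wv r h0 γ) (wf r h0 (τ γ)))) := by
  have e1 : ∀ x, τ (wv r h0 γ x) = wv r h0 (τ γ) x := by
    rintro ((x | x) | x)
    · simp only [wv, Sum.elim_inl, Pi.single_apply]
      split_ifs <;> simp
    · simp only [wv, Sum.elim_inl, Sum.elim_inr, Pi.single_apply]
      split_ifs <;> simp
    · simp [wv]
  have e2 : ∀ x, τ (wf r h0 (τ γ) x) = wf r h0 γ x := by
    rintro ((x | x) | x)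
    · simp only [wf, Sum.elim_inl, Pi.single_apply]
      split_ifs <;> simp [hτ2]
    · simp only [wf, Sum.elim_inl, Sum.elim_inr, Pi.single_apply]
      split_ifs <;> simp
    · simp [wf]
  have e : (ε • vecMulVec (wv r h0 γ) (wf r h0 (τ γ))).map τ =
      (-ε) • vecMulVec (wv r h0 (τ γ)) (wf r h0 γ) := by
    ext x y
    rw [map_apply, Matrix.smul_apply, Matrix.smul_apply, smul_eq_mul, smul_eq_mul, map_mul, hε, vecMulVec_apply,
      vecMulVec_apply, map_mul, e1, e2]
  rw [e, transpose_smul, Matrix.smul_mul, Matrix.mul_smul, neg_smul, transpose_vecMulVec, vecMulVec_mul,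
    mul_vecMulVec, Sg_wv, wv_Sg]

/-- the commutant -/
theorem comm_scalar {m r : ℕ} (h0 : 0 < m) (hr : r ≤ 1) {γ γ' : K} {G : Matrix (XX m r) (XX m r) K}
    (g1 : G * bu r 1 = bu r 1 * G) (g2 : G * bl r 1 = bl r 1 * G)
    (g3 : G * bl r (pth K m + 1) = bl r (pth K m + 1) * G)
    (g4 : G * vecMulVec (wv r h0 γ) (wf r h0 γ') = vecMulVec (wv r h0 γ) (wf r h0 γ') * G) : ∃ k : K, G = k • 1 := by
  obtain ⟨A, B, C, D, Q, R, E, rfl⟩ : ∃ (A B C D : Matrix (Fin m) (Fin m) K) (Q : Matrix (Fin m ⊕ Fin m) (Fin r) K)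
      (R : Matrix (Fin r) (Fin m ⊕ Fin m) K) (E : Matrix (Fin r) (Fin r) K),
      G = fromBlocks (fromBlocks A B C D) Q R E :=
    ⟨_, _, _, _, _, _, _, by rw [fromBlocks_toBlocks, fromBlocks_toBlocks]⟩
  simp only [bu, bl, fromBlocks_multiply, Matrix.mul_zero, Matrix.zero_mul, add_zero, zero_add, Matrix.mul_one,
    Matrix.one_mul] at g1 g2 g3
  rw [fromBlocks_inj] at g1 g2 g3
  have hCD := fromBlocks_inj.1 g1.1
  have hBD := fromBlocks_inj.1 g2.1
  have h3 := fromBlocks_inj.1 g3.1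
  obtain rfl : C = 0 := hCD.1.symm
  obtain rfl : B = 0 := hBD.1
  obtain rfl : A = D := hCD.2.1
  have hunit : (fromBlocks 0 1 0 0 : Matrix (Fin m ⊕ Fin m) (Fin m ⊕ Fin m) K) * fromBlocks 0 0 1 0 +
      fromBlocks 0 0 1 0 * fromBlocks 0 1 0 0 = 1 := by
    simp [fromBlocks_multiply, fromBlocks_add, fromBlocks_one]
  obtain rfl : Q = 0 := by
    rw [← Matrix.one_mul Q, ← hunit, Matrix.add_mul, Matrix.mul_assoc, Matrix.mul_assoc, ← g1.2.1, ← g2.2.1]
    simp
  obtain rfl : R = 0 := by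
    rw [← Matrix.mul_one R, ← hunit, Matrix.mul_add, ← Matrix.mul_assoc, ← Matrix.mul_assoc, g1.2.2.1, g2.2.2.1]
    simp
  have hP : A * pth K m = pth K m * A := by
    have := h3.2.2.1
    rw [Matrix.mul_add, Matrix.add_mul, Matrix.mul_one, Matrix.one_mul] at this
    exact add_right_cancel this
  rw [mul_vecMulVec, vecMulVec_mul] at g4
  set k := (wf r h0 γ' ᵥ* fromBlocks (fromBlocks A 0 0 A) 0 0 E) (Sum.inl (Sum.inr ⟨0, h0⟩)) with hk
  have h5 : ∀ x, (fromBlocks (fromBlocks A 0 0 A) 0 0 E *ᵥ wv r h0 γ) x = wv r h0 γ x * k := by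
    intro x
    have := congrFun (congrFun g4 x) (Sum.inl (Sum.inr ⟨0, h0⟩))
    rw [vecMulVec_apply, vecMulVec_apply] at this
    have e : wf r h0 γ' (Sum.inl (Sum.inr ⟨0, h0⟩)) = 1 := by simp [wf]
    rwa [e, mul_one] at this
  have h6 : fromBlocks (fromBlocks A 0 0 A) 0 0 E *ᵥ wv r h0 γ =
      Sum.elim (Sum.elim (A *ᵥ Pi.single ⟨0, h0⟩ 1) (A *ᵥ Pi.single ⟨0, h0⟩ γ)) (E *ᵥ 1) := by
    simp only [wv, fromBlocks_mulVec, Sum.elim_comp_inl, Sum.elim_comp_inr, zero_mulVec, zero_add, add_zero]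
  rw [h6] at h5
  have hA0 : A *ᵥ Pi.single ⟨0, h0⟩ 1 = k • Pi.single ⟨0, h0⟩ 1 := by
    ext x
    have := h5 (Sum.inl (Sum.inl x))
    simp only [wv, Sum.elim_inl] at this
    rw [this, Pi.smul_apply, smul_eq_mul, mul_comm]
  have hE : E = k • 1 := by
    ext x y
    have : Subsingleton (Fin r) := Fin.subsingleton_iff_le_one.2 hr
    obtain rfl := Subsingleton.elim x y
    have := h5 (Sum.inr x)
    simp only [wv, Sum.elim_inr, Pi.one_apply, one_mul, mulVec, dotProduct, mul_one] at this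
    rw [Matrix.smul_apply, one_apply_eq, smul_eq_mul, mul_one, ← this]
    rw [Finset.sum_eq_single x]
    · intro z _ hz
      exact absurd (Subsingleton.elim z x) hz
    · intro h
      exact absurd (Finset.mem_univ _) h
  have hA : ∀ i : Fin m, A *ᵥ Pi.single i 1 = k • Pi.single i 1 := by
    refine path_mem (K := K) (((A.mulVecLin : (Fin m → K) →ₗ[K] (Fin m → K)) : (Fin m → K) →+ (Fin m → K)).eqLocus
      ((k • LinearMap.id : (Fin m → K) →ₗ[K] (Fin m → K)) : (Fin m → K) →+ (Fin m → K))) (fun v => pth K m *ᵥ v)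
      (fun v hv => ?_) (fun i => Pi.single i (1 : K)) (fun i => ?_)
      (fun _ => ?_)
    · have hv' : A *ᵥ v = k • v := hv
      change A *ᵥ (pth K m *ᵥ v) = k • (pth K m *ᵥ v)
      rw [mulVec_mulVec, hP, ← mulVec_mulVec, hv', mulVec_smul]
    · ext x
      simp [Finset.sum_apply, Pi.single_apply]
    · change A *ᵥ Pi.single ⟨0, h0⟩ 1 = k • Pi.single ⟨0, h0⟩ 1
      exact hA0
  have hA' : A = k • 1 := by
    ext x y
    have := congrFun (hA y) x
    rw [mulVec_single_one, Pi.smul_apply, smul_eq_mul] at this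
    rw [Matrix.smul_apply, smul_eq_mul, one_apply]
    change A x y = _
    change A x y = _ at this
    rw [this, Pi.single_apply]
  refine ⟨k, ?_⟩
  rw [hA', hE]
  ext x y
  rcases x with (x | x) | x <;> rcases y with (y | y) | y <;> simp [one_apply]

variable [Finite K] {τ : K ≃+* K} (hτ : ∃ a, τ a ≠ a) (hτ2 : ∀ a, τ (τ a) = a)

include hτ hτ2

theorem exists_eps : ∃ ε : K, ε ≠ 0 ∧ τ ε = -ε := by
  obtain ⟨a, ha⟩ := hτ
  exact ⟨a - τ a, sub_ne_zero.2 (Ne.symm ha), by rw [map_sub, hτ2]; ring⟩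

theorem exists_gamma (r : ℕ) : ∃ γ : K, τ γ + γ + r = 0 := by
  obtain ⟨t, ht⟩ : ∃ t : K, τ t + t ≠ 0 := by
    by_cases h2 : (1 : K) + 1 = 0
    · obtain ⟨a, ha⟩ := hτ
      refine ⟨a, fun h => ha ?_⟩
      have : a + a = 0 := by
        have := congrArg (fun x => a * x) h2
        simpa [mul_add] using this
      rw [eq_neg_of_add_eq_zero_left h, neg_eq_of_add_eq_zero_left this]
    · exact ⟨1, by rwa [map_one]⟩
  refine ⟨-(r : K) * (t * (τ t + t)⁻¹), ?_⟩
  have e : τ (τ t + t) = τ t + t := by rw [map_add, hτ2, add_comm]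
  rw [map_mul, map_neg, map_natCast, map_mul, map_inv₀, e]
  have : -(r : K) * (τ t * (τ t + t)⁻¹) + -(r : K) * (t * (τ t + t)⁻¹) =
    -(r : K) * ((τ t + t) * (τ t + t)⁻¹) := by ring
  rw [this, mul_inv_cancel₀ ht]
  ring

/-- **the four matrices on the second factor** -/
theorem exists_h {J : Type*} [Fintype J] [DecidableEq J] (hJ : 2 ≤ Fintype.card J) :
    ∃ h : Fin 4 → Matrix J J K, (∀ i, h i * h i = 0) ∧ (∀ i, h i ≠ 0) ∧ (∀ i, ((h i).map τ)ᵀ = -h i) ∧
      ∀ G : Matrix J J K, (∀ i, G * h i = h i * G) → ∃ k : K, G = k • 1 := by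
  obtain ⟨ε, hε0, hε⟩ := exists_eps hτ hτ2
  set m := Fintype.card J / 2 with hm
  set r := Fintype.card J % 2 with hr
  obtain ⟨γ, hγ⟩ := exists_gamma hτ hτ2 r
  have h0 : 0 < m := by omega
  have hr1 : r ≤ 1 := by omega
  have hc : Fintype.card (XX m r) = Fintype.card J := by
    simp only [Fintype.card_sum, Fintype.card_fin]
    omega
  obtain ⟨Θ, hΘ⟩ := exists_theta (J := J) hτ hτ2 hc (Sg_map τ m r) (Sg_transpose m r) (Sg_sq m r)
  let g : Fin 4 → Matrix (XX m r) (XX m r) K :=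
    ![ε • bu r 1, ε • bl r 1, ε • bl r (pth K m + 1), ε • vecMulVec (wv r h0 γ) (wf r h0 (τ γ))]
  have hN1 : (((1 : Matrix (Fin m) (Fin m) K)).map τ)ᵀ = 1 := by
    rw [Matrix.map_one _ (map_zero τ) (map_one τ), transpose_one]
  have hNP : ((pth K m + 1).map τ)ᵀ = pth K m + 1 := by
    have e : (pth K m + 1).map τ = (pth K m).map τ + (1 : Matrix (Fin m) (Fin m) K).map τ := by
      ext i j
      simp only [Matrix.map_apply, Matrix.add_apply, map_add]
    rw [e, pth_map, transpose_add, pth_transpose, hN1]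
  have hsq : ∀ i, g i * g i = 0 := by
    intro i
    have e : ∀ M : Matrix (XX m r) (XX m r) K, M * M = 0 → (ε • M) * (ε • M) = 0 := fun M hM => by
      rw [smul_mul_smul_comm, hM, smul_zero]
    fin_cases i
    · exact e _ (bu_sq _ _)
    · exact e _ (bl_sq _ _)
    · exact e _ (bl_sq _ _)
    · exact e _ (w_sq _ _ hγ)
  have hne : ∀ i, g i ≠ 0 := by
    intro i
    have e : ∀ (M : Matrix (XX m r) (XX m r) K) (x y), M x y = 1 → ε • M ≠ 0 := fun M x y hM h => by
      have := congrFun (congrFun h x) y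
      rw [Matrix.smul_apply, hM, smul_eq_mul, mul_one] at this
      exact hε0 this
    fin_cases i
    · exact e _ (Sum.inl (Sum.inl ⟨0, h0⟩)) (Sum.inl (Sum.inr ⟨0, h0⟩)) (by simp [bu])
    · exact e _ (Sum.inl (Sum.inr ⟨0, h0⟩)) (Sum.inl (Sum.inl ⟨0, h0⟩)) (by simp [bl])
    · exact e _ (Sum.inl (Sum.inr ⟨0, h0⟩)) (Sum.inl (Sum.inl ⟨0, h0⟩)) (by simp [bl, pth_apply])
    · exact e _ (Sum.inl (Sum.inl ⟨0, h0⟩)) (Sum.inl (Sum.inr ⟨0, h0⟩)) (by simp [vecMulVec_apply, wv, wf])
  refine ⟨fun i => Θ (g i), fun i => ?_, fun i => ?_, fun i => ?_, fun G hG => ?_⟩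
  · change Θ (g i) * Θ (g i) = 0
    rw [← map_mul, hsq, map_zero]
  · intro h
    exact hne i (Θ.injective (by rw [map_zero]; exact h))
  · refine hΘ _ ?_
    fin_cases i
    · exact bu_skew hε r hN1
    · exact bl_skew hε r hN1
    · exact bl_skew hε r hNP
    · exact w_skew hτ2 hε r h0 γ
  · obtain ⟨H, rfl⟩ := Θ.surjective G
    have h1 : ∀ i, H * g i = g i * H := fun i => Θ.injective (by rw [map_mul, map_mul]; exact hG i)
    have h2 : ∀ M : Matrix (XX m r) (XX m r) K, H * (ε • M) = (ε • M) * H → H * M = M * H := by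
      intro M hM
      rw [Matrix.mul_smul, Matrix.smul_mul] at hM
      exact smul_right_injective _ hε0 hM
    obtain ⟨k, hk⟩ := comm_scalar h0 hr1 (h2 _ (h1 0)) (h2 _ (h1 1)) (h2 _ (h1 2)) (h2 _ (h1 3))
    exact ⟨k, by rw [hk, map_smul, map_one]⟩

end model

section sideC

variable {K : Type*} [Field K] {J : Type*} [Fintype J] [DecidableEq J]

/-- a `K`-linear automorphism fixing matrices with commutant `K` is trivial -/
theorem sideC {ι : Type*} {h : ι → Matrix J J K} (hG : ∀ G : Matrix J J K, (∀ i, G * h i = h i * G) → ∃ k : K, G = k • 1)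
    {fc : Matrix J J K →+* Matrix J J K} (hinj : Function.Injective fc) (hs : ∀ (k : K) X, fc (k • X) = k • fc X)
    (hfix : ∀ i, fc (h i) = h i) (X : Matrix J J K) : fc X = X := by
  classical
  let f : Matrix J J K →ₐ[K] Matrix J J K := AlgHom.ofLinearMap ⟨⟨fc, map_add fc⟩, hs⟩ (map_one fc) (map_mul fc)
  have hbij : Function.Bijective f := ⟨hinj, (LinearMap.injective_iff_surjective (f := f.toLinearMap)).1 hinj⟩
  let F : Matrix J J K ≃ₐ[K] Matrix J J K := AlgEquiv.ofBijective f hbij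
  let L : Matrix J J K ≃ₐ[K] Module.End K (J → K) := Matrix.toLinAlgEquiv'
  obtain ⟨T, hT⟩ := AlgEquiv.eq_linearEquivConjAlgEquiv ((L.symm.trans F).trans L)
  have h1 : ∀ M : Matrix J J K, L (fc M) * (T : Module.End K (J → K)) = (T : Module.End K (J → K)) * L M := by
    intro M
    have h2 : L (F (L.symm (L M))) = T.conjAlgEquiv K (L M) := by rw [← hT]; rfl
    rw [AlgEquiv.symm_apply_apply] at h2
    have h3 : L (fc M) = T.conjAlgEquiv K (L M) := h2
    rw [h3]
    refine LinearMap.ext fun v => ?_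
    simp [LinearEquiv.conjAlgEquiv_apply]
  obtain ⟨k, hk⟩ := hG (L.symm T) (fun i => L.injective (by
    have := h1 (h i)
    rw [hfix] at this
    rw [map_mul, map_mul, AlgEquiv.apply_symm_apply, this]))
  have hT' : (T : Module.End K (J → K)) = k • 1 := by
    have := congrArg L hk
    rwa [AlgEquiv.apply_symm_apply, map_smul, map_one] at this
  apply L.injective
  have h2 : L (fc X) * (T : Module.End K (J → K)) = L X * (T : Module.End K (J → K)) := by
    rw [h1, hT', smul_mul_assoc, mul_smul_comm, one_mul, mul_one]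
  refine LinearMap.ext fun v => ?_
  have h3 := LinearMap.congr_fun h2 (T.symm v)
  simpa using h3

end sideC

end Cfsg.Agent.H920.FC
end

-- part: H920/FC/Cases
section
/-!
# S5764 [B-C4U]: the two cases (helper920)

`good_one`: first factor of dimension at least 3; `good_two`: both factors of dimension 2, odd characteristic.
-/

set_option autoImplicit false
set_option linter.unusedSectionVars false

namespace Cfsg.Agent.H920.FC

open Matrix Cfsg.Agent.H198.FC
open scoped Kronecker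

universe u v

section gen

variable {K : Type*} [Field K] [Finite K]

/-- a generator of the multiplicative group -/
theorem exists_gen : ∃ ω : K, ω ≠ 0 ∧ ∀ σ : K ≃+* K, σ ω = ω → σ = RingEquiv.refl K := by
  obtain ⟨g, hg⟩ := IsCyclic.exists_generator (α := Kˣ)
  refine ⟨(g : K), g.ne_zero, fun σ hσ => ?_⟩
  ext x
  by_cases hx : x = 0
  · rw [hx, map_zero, map_zero]
  · obtain ⟨n, hn⟩ := Subgroup.mem_zpowers_iff.1 (hg (Units.mk0 x hx))
    have e : x = (g : K) ^ n := by
      rw [← Units.val_zpow_eq_zpow_val, hn]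
      rfl
    rw [e, map_zpow₀, hσ]
    rfl

end gen

section one

variable {K : Type*} [Field K] {J : Type*} [Fintype J] [DecidableEq J]

theorem good_one {u : ℕ} (hu : 3 ≤ u) {ω ω' : K} (hgen : ∀ σ : K ≃+* K, σ ω = ω → σ = RingEquiv.refl K)
    {h : Fin 4 → Matrix J J K} (hG : ∀ G : Matrix J J K, (∀ i, G * h i = h i * G) → ∃ k : K, G = k • 1) :
    Good (BA hu ω ω') h := by
  intro fa fc σ hfa hfc hsa hsc hrel
  choose c β hc hfix hrel using hrel
  obtain ⟨c1, hσ, hfa1⟩ := sideA hu hgen hfa hsa hc hrel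
  exact ⟨hfa1, sideC hG hfc (fun k X => by rw [hsc, hσ]; rfl) (fun i => by rw [hfix, c1, one_smul])⟩

theorem BA_herm {u : ℕ} (hu : 3 ≤ u) {τ : K ≃+* K} (hτ2 : ∀ a, τ (τ a) = a) (ω : K) (i : Fin 4) :
    ((BA hu ω (τ ω) i).map τ)ᵀ = BA hu ω (τ ω) i := by
  have hs : ∀ (x y : Fin u) (a : K), ((single x y a).map τ)ᵀ = single y x (τ a) := by
    intro x y a
    ext i j
    simp only [transpose_apply, map_apply, single_apply]
    by_cases h : x = j ∧ y = i
    · rw [if_pos h, if_pos h.symm]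
    · rw [if_neg h, if_neg (fun h' => h h'.symm), map_zero]
  have hadd : ∀ M N : Matrix (Fin u) (Fin u) K, ((M + N).map τ)ᵀ = (M.map τ)ᵀ + (N.map τ)ᵀ := by
    intro M N
    ext i j
    simp
  have hP : ((pth K u).map τ)ᵀ = pth K u := by rw [pth_map, pth_transpose]
  fin_cases i
  · change ((single _ _ (1 : K)).map τ)ᵀ = single _ _ (1 : K)
    rw [hs, map_one]
  · exact hP
  · change ((pth K u + single _ _ (1 : K)).map τ)ᵀ = pth K u + single _ _ (1 : K)
    rw [hadd, hP, hs, map_one]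
  · change ((single _ _ (1 : K) + ω • single _ _ (1 : K) + τ ω • single _ _ (1 : K)).map τ)ᵀ =
      single _ _ (1 : K) + ω • single _ _ (1 : K) + τ ω • single _ _ (1 : K)
    simp only [smul_single, smul_eq_mul, mul_one]
    rw [hadd, hadd, hs, hs, hs, hτ2, map_one]
    abel

theorem BA_ne {u : ℕ} (hu : 3 ≤ u) {ω ω' : K} (hω : ω ≠ 0) (i : Fin 4) (k : K) : BA hu ω ω' i ≠ k • 1 := by
  set e0 : Fin u := Fin.castLE hu 0 with he0
  set e1 : Fin u := Fin.castLE hu 1 with he1
  have h01 : e0 ≠ e1 := (Fin.castLE_injective hu).ne (by decide)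
  have hP01 : pth K u e0 e1 = 1 := by
    rw [pth_apply, if_pos]
    left
    simp [he0, he1]
  intro h
  fin_cases i
  · have h' : single e0 e0 (1 : K) = k • 1 := h
    have h1 := congrFun (congrFun h' e0) e0
    have h2 := congrFun (congrFun h' e1) e1
    simp only [Matrix.smul_apply, smul_eq_mul, one_apply_eq, mul_one, single_apply_same,
      single_apply_of_row_ne h01] at h1 h2
    exact one_ne_zero (h1.trans h2.symm)
  · have h' : pth K u = k • 1 := h
    have h1 := congrFun (congrFun h' e0) e1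
    rw [hP01, Matrix.smul_apply, one_apply_ne h01, smul_zero] at h1
    exact one_ne_zero h1
  · have h' : pth K u + single e0 e0 (1 : K) = k • 1 := h
    have h1 := congrFun (congrFun h' e0) e1
    rw [Matrix.add_apply, hP01, Matrix.smul_apply, one_apply_ne h01, smul_zero, single_apply_of_col_ne _ _ h01,
      add_zero] at h1
    exact one_ne_zero h1
  · have h' : single e0 e0 (1 : K) + ω • single e0 e1 1 + ω' • single e1 e0 1 = k • 1 := h
    have h1 := congrFun (congrFun h' e0) e1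
    simp only [Matrix.add_apply, Matrix.smul_apply, smul_eq_mul, one_apply_ne h01, mul_one, single_apply_same,
      single_apply_of_row_ne h01.symm, single_apply_of_col_ne _ _ h01, mul_zero, zero_add, add_zero] at h1
    exact hω h1

end one

section two

variable {K : Type*} [Field K]

/-- the properties of the matrices on the second factor of dimension 2 -/
structure HTwo (τ : K ≃+* K) (h1 h2 h3 e : Matrix (Fin 2) (Fin 2) K) (κ : K) : Prop where
  s1 : h1 * h1 = 0
  s2 : h2 * h2 = 0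
  s3 : h3 * h3 = 0
  n1 : h1 ≠ 0
  n2 : h2 ≠ 0
  n3 : h3 ≠ 0
  k1 : (h1.map τ)ᵀ = -h1
  k2 : (h2.map τ)ᵀ = -h2
  k3 : (h3.map τ)ᵀ = -h3
  κ0 : κ ≠ 0
  e0 : e ≠ 0
  ee : e * e = e
  r1 : h1 * h2 = κ • e
  r2 : e * h3 * e = e
  r3 : e * h3 * (1 - e) = h1
  comm : ∀ G, G * h1 = h1 * G → G * h2 = h2 * G → ∃ k : K, G = k • 1

theorem exists_hTwo [Finite K] {τ : K ≃+* K} (hτ : ∃ a, τ a ≠ a) (hτ2 : ∀ a, τ (τ a) = a) :
    ∃ h1 h2 h3 e κ, HTwo τ h1 h2 h3 e κ := by
  obtain ⟨ε, hε0, hε⟩ := exists_eps hτ hτ2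
  have hε' : τ ε⁻¹ = -ε⁻¹ := by rw [map_inv₀, hε, inv_neg]
  obtain ⟨Θ, hΘ⟩ := exists_theta (X := Fin 2) (J := Fin 2) hτ hτ2 rfl (S := !![0, 1; 1, 0])
    (by ext i j; fin_cases i <;> fin_cases j <;> simp)
    (by ext i j; fin_cases i <;> fin_cases j <;> simp)
    (by ext i j; fin_cases i <;> fin_cases j <;> simp)
  have hne : ∀ {M : Matrix (Fin 2) (Fin 2) K}, M ≠ 0 → Θ M ≠ 0 := fun hM h => hM (Θ.injective (by rw [h, map_zero]))
  refine ⟨Θ !![0, ε; 0, 0], Θ !![0, 0; ε, 0], Θ !![1, ε; -ε⁻¹, -1], Θ !![1, 0; 0, 0], ε * ε, ?_⟩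
  constructor
  · rw [← map_mul, ← map_zero Θ]
    congr 1
    ext i j; fin_cases i <;> fin_cases j <;> simp
  · rw [← map_mul, ← map_zero Θ]
    congr 1
    ext i j; fin_cases i <;> fin_cases j <;> simp
  · rw [← map_mul, ← map_zero Θ]
    congr 1
    ext i j; fin_cases i <;> fin_cases j <;> simp [hε0]
  · exact hne fun h => hε0 (by simpa using congrFun (congrFun h 0) 1)
  · exact hne fun h => hε0 (by simpa using congrFun (congrFun h 1) 0)
  · exact hne fun h => hε0 (by simpa using congrFun (congrFun h 0) 1)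
  · refine hΘ _ ?_
    ext i j; fin_cases i <;> fin_cases j <;> simp [hε, mul_apply]
  · refine hΘ _ ?_
    ext i j; fin_cases i <;> fin_cases j <;> simp [hε, mul_apply]
  · refine hΘ _ ?_
    ext i j; fin_cases i <;> fin_cases j <;> simp [hε, hε', mul_apply]
  · exact mul_ne_zero hε0 hε0
  · exact hne fun h => one_ne_zero (α := K) (by simpa using congrFun (congrFun h 0) 0)
  · rw [← map_mul]
    congr 1
    ext i j; fin_cases i <;> fin_cases j <;> simp
  · rw [← map_mul, ← map_smul]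
    congr 1
    ext i j; fin_cases i <;> fin_cases j <;> simp
  · rw [← map_mul, ← map_mul]
    congr 1
    ext i j; fin_cases i <;> fin_cases j <;> simp
  · rw [← map_one Θ, ← map_sub, ← map_mul, ← map_mul, Matrix.one_fin_two]
    congr 1
    ext i j; fin_cases i <;> fin_cases j <;> simp [mul_apply]
  · intro G g1 g2
    obtain ⟨H, rfl⟩ := Θ.surjective G
    rw [← map_mul, ← map_mul] at g1 g2
    have g1' := Θ.injective g1
    have g2' := Θ.injective g2
    refine ⟨H 0 0, ?_⟩
    rw [← map_one Θ, ← map_smul]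
    congr 1
    have a1 := congrFun (congrFun g1' 0) 1
    have a2 := congrFun (congrFun g1' 0) 0
    have a3 := congrFun (congrFun g2' 0) 0
    simp [mul_apply, hε0] at a1 a2 a3
    ext i j; fin_cases i <;> fin_cases j <;> simp [a2, a3]
    exact mul_left_cancel₀ hε0 (by rw [← a1, mul_comm])

/-- the matrices on the first factor of dimension 2 -/
def BB (ω ω' : K) : Fin 4 → Matrix (Fin 2) (Fin 2) K :=
  ![single 0 0 1, single 0 0 1, pth K 2, ω • single 0 1 1 + ω' • single 1 0 1]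

theorem good_two (h2 : (2 : K) ≠ 0) {τ : K ≃+* K} {h1 h2' h3 e : Matrix (Fin 2) (Fin 2) K} {κ : K}
    (H : HTwo τ h1 h2' h3 e κ) {ω ω' : K} (hgen : ∀ σ : K ≃+* K, σ ω = ω → σ = RingEquiv.refl K) :
    Good (BB ω ω') ![h1, h2', h3, h1] := by
  intro fa fc σ hfa hfc hsa hsc hrel
  obtain ⟨c0, β0, hc0, f0, q0⟩ := hrel 0
  obtain ⟨c1, β1, hc1, f1, q1⟩ := hrel 1
  obtain ⟨c2, β2, hc2, f2, q2⟩ := hrel 2
  obtain ⟨c3, β3, hc3, f3, q3⟩ := hrel 3
  replace f0 : fc h1 = c0 • h1 := f0
  replace f1 : fc h2' = c1 • h2' := f1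
  replace f2 : fc h3 = c2 • h3 := f2
  replace f3 : fc h1 = c3 • h1 := f3
  replace q0 : c0 • fa (single 0 0 1) = single 0 0 1 + β0 • 1 := q0
  replace q1 : c1 • fa (single 0 0 1) = single 0 0 1 + β1 • 1 := q1
  replace q2 : c2 • fa (pth K 2) = pth K 2 + β2 • 1 := q2
  replace q3 : c3 • fa (ω • single 0 1 1 + ω' • single 1 0 1) = ω • single 0 1 1 + ω' • single 1 0 1 + β3 • 1 := q3
  have h01 : (0 : Fin 2) ≠ 1 := by decide
  have hEne : (single 0 0 1 : Matrix (Fin 2) (Fin 2) K) ≠ 1 - single 0 0 1 := by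
    intro h
    have := congrFun (congrFun h 0) 0
    simp at this
  have hcc : c0 * c1 = 1 := by
    rcases idem_rel h01 hc0 q0 with h | h <;> rcases idem_rel h01 hc1 q1 with h' | h'
    · rw [h.1, h'.1, one_mul]
    · exact absurd (h.2.2.symm.trans h'.2.2) hEne
    · exact absurd (h'.2.2.symm.trans h.2.2) hEne
    · rw [h.1, h'.1]; ring
  have hκ : σ κ • fc e = κ • e := by
    rw [← hsc, ← H.r1, map_mul, f0, f1, smul_mul_smul_comm, hcc, one_smul]
  have hσκ : σ κ ≠ 0 := (map_ne_zero σ).2 H.κ0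
  have hfe : fc e = ((σ κ)⁻¹ * κ) • e := by
    rw [mul_smul, ← hκ, smul_smul, inv_mul_cancel₀ hσκ, one_smul]
  set ρ := (σ κ)⁻¹ * κ with hρ
  have hρ0 : ρ ≠ 0 := mul_ne_zero (inv_ne_zero hσκ) H.κ0
  have hρ1 : ρ = 1 := by
    have h5 : (ρ * ρ) • e = ρ • e := by
      rw [← hfe]
      conv_rhs => rw [← H.ee, map_mul, hfe, smul_mul_smul_comm, H.ee]
    have h6 := smul_left_injective K H.e0 h5
    exact mul_left_cancel₀ hρ0 (by rw [h6, mul_one])
  rw [hρ1, one_smul] at hfe
  have hc2' : c2 = 1 := by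
    have h5 : fc (e * h3 * e) = e := by rw [H.r2, hfe]
    rw [map_mul, map_mul, hfe, f2, mul_smul_comm, smul_mul_assoc, H.r2] at h5
    exact smul_left_injective K H.e0 (by simpa using h5)
  rw [hc2', one_smul] at f2 q2
  have hfh1 : fc h1 = h1 := by
    rw [← H.r3, map_mul, map_mul, map_sub, map_one, hfe, f2]
  have hc0' : c0 = 1 := by
    rw [f0] at hfh1
    exact smul_left_injective K H.n1 (by simpa using hfh1)
  have hc3' : c3 = 1 := by
    rw [f3] at hfh1
    exact smul_left_injective K H.n1 (by simpa using hfh1)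
  have hc1' : c1 = 1 := by rw [hc0', one_mul] at hcc; exact hcc
  have hfE : fa (single 0 0 1) = single 0 0 1 := by
    rcases idem_rel h01 hc0 q0 with h | h
    · exact h.2.2
    · exfalso
      apply h2
      have := h.1.symm.trans hc0'
      linear_combination -this
  have hfP : fa (pth K 2) = pth K 2 := by
    have := corner hfE hsa (c := 1) (β := β2) (M := pth K 2) (by rw [one_smul, q2])
    have e0 : pth K 2 0 0 = 0 := by rw [pth_apply, if_neg]; simp
    rw [e0, map_zero, mul_zero, zero_add] at this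
    rw [q2, ← this, zero_smul, add_zero]
  have hfix : ∀ x y, fa (single x y 1) = single x y 1 := pth_fix (by norm_num) hfE hfP
  rw [hc3', one_smul, map_add, hsa, hsa, hfix, hfix] at q3
  have hσ : σ = RingEquiv.refl K := by
    refine hgen σ ?_
    have := congrFun (congrFun q3 0) 1
    simpa using this
  refine ⟨fix_all (fun k M => by rw [hsa, hσ]; rfl) hfix, ?_⟩
  refine sideC (h := ![h1, h2']) (fun G hG => H.comm G (hG 0) (hG 1)) hfc (fun k X => by rw [hsc, hσ]; rfl) (fun i => ?_)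
  fin_cases i
  · exact hfh1
  · change fc h2' = h2'
    rw [f1, hc1', one_smul]

end two

end Cfsg.Agent.H920.FC
end

-- part: H920/FC/C4U
section
/-!
# S5764 [B-C4U]: tensor decompositions of unitary spaces (helper920)
-/

set_option autoImplicit false
set_option linter.unusedSectionVars false

namespace Cfsg.Agent.H920.FC

open Matrix Cfsg.Agent.H198.FC
open scoped Kronecker

universe u v

section cases

variable {K : Type u} [Field K] [Finite K] {V : Type v} [AddCommGroup V] [Module K V] [Module.Finite K V]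

theorem adj_kron {I J : Type*} [Fintype I] [DecidableEq I] [Fintype J] [DecidableEq J] {b : Cl K V}
    (Ψ : Matrix (I × J) (I × J) K ≃ₐ[K] R K V) (hadj : ∀ X, b.Adj (Ψ X) (Ψ ((X.map b.τ)ᵀ)))
    {B : Matrix I I K} {h : Matrix J J K} (hB : (B.map b.τ)ᵀ = B) (hh : (h.map b.τ)ᵀ = -h) :
    b.Adj (Ψ (B ⊗ₖ h)) (-Ψ (B ⊗ₖ h)) := by
  have h1 := hadj (B ⊗ₖ h)
  have e : ((B ⊗ₖ h).map b.τ)ᵀ = -(B ⊗ₖ h) := by
    ext ⟨i, j⟩ ⟨k, l⟩
    have e1 := congrFun (congrFun hB i) k
    have e2 := congrFun (congrFun hh j) l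
    simp only [transpose_apply, map_apply, Matrix.neg_apply] at e1 e2
    simp only [transpose_apply, map_apply, kroneckerMap_apply, Matrix.neg_apply, map_mul, e1, e2]
    ring
  rwa [e, map_neg] at h1

theorem single_ct {X : Type*} [DecidableEq X] (τ : K ≃+* K) (x y : X) (a : K) :
    ((single x y a).map τ)ᵀ = single y x (τ a) := by
  ext i j
  simp only [transpose_apply, map_apply, single_apply]
  by_cases h : x = j ∧ y = i
  · rw [if_pos h, if_pos h.symm]
  · rw [if_neg h, if_neg (fun h' => h h'.symm), map_zero]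

theorem fiveB_one {b : Cl K V} (hU : b.IsU) (hn : 1 ≤ Module.finrank K V) {u : ℕ} (hu : 3 ≤ u)
    {J : Type*} [Fintype J] [DecidableEq J] (hJ : 2 ≤ Fintype.card J)
    (Ψ : Matrix (Fin u × J) (Fin u × J) K ≃ₐ[K] R K V) (hadj : ∀ X, b.Adj (Ψ X) (Ψ ((X.map b.τ)ᵀ)))
    {S : Subgroup (Equiv.Perm (R K V))} (hS : S ≤ RB b)
    (hA : ∀ f ∈ S, ∀ B : Matrix (Fin u) (Fin u) K, ∃ B' : Matrix (Fin u) (Fin u) K,
      f (Ψ (B ⊗ₖ (1 : Matrix J J K))) = Ψ (B' ⊗ₖ (1 : Matrix J J K))) : FiveB b S := by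
  have : Nonempty (Fin u) := ⟨⟨0, by omega⟩⟩
  have : Nonempty J := Fintype.card_pos_iff.1 (by omega)
  obtain ⟨h, h1, h2, h3, h4⟩ := exists_h hU.1 b.invol hJ
  obtain ⟨ω, hω, hgen⟩ := exists_gen (K := K)
  exact fiveB_of_good b hn Ψ hS hA (BA hu ω (b.τ ω)) h (fun i k => BA_ne hu hω i k) h1 h2
    (fun i => adj_kron Ψ hadj (BA_herm hu b.invol ω i) (h3 i)) (good_one hu hgen h4)

theorem fiveB_two {b : Cl K V} (hU : b.IsU) (hn : 1 ≤ Module.finrank K V) (h2 : (2 : K) ≠ 0)
    (Ψ : Matrix (Fin 2 × Fin 2) (Fin 2 × Fin 2) K ≃ₐ[K] R K V) (hadj : ∀ X, b.Adj (Ψ X) (Ψ ((X.map b.τ)ᵀ)))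
    {S : Subgroup (Equiv.Perm (R K V))} (hS : S ≤ RB b)
    (hA : ∀ f ∈ S, ∀ B : Matrix (Fin 2) (Fin 2) K, ∃ B' : Matrix (Fin 2) (Fin 2) K,
      f (Ψ (B ⊗ₖ (1 : Matrix (Fin 2) (Fin 2) K))) = Ψ (B' ⊗ₖ (1 : Matrix (Fin 2) (Fin 2) K))) : FiveB b S := by
  obtain ⟨h1, h2', h3, e, κ, H⟩ := exists_hTwo hU.1 b.invol
  obtain ⟨ω, hω, hgen⟩ := exists_gen (K := K)
  have hherm : ∀ i, ((BB ω (b.τ ω) i).map b.τ)ᵀ = BB ω (b.τ ω) i := by
    intro i
    fin_cases i
    · change ((single 0 0 (1 : K)).map b.τ)ᵀ = single 0 0 (1 : K)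
      rw [single_ct, map_one]
    · change ((single 0 0 (1 : K)).map b.τ)ᵀ = single 0 0 (1 : K)
      rw [single_ct, map_one]
    · change ((pth K 2).map b.τ)ᵀ = pth K 2
      rw [pth_map, pth_transpose]
    · change (((ω • single 0 1 (1 : K) + b.τ ω • single 1 0 (1 : K) : Matrix (Fin 2) (Fin 2) K)).map b.τ)ᵀ =
        (ω • single 0 1 (1 : K) + b.τ ω • single 1 0 (1 : K) : Matrix (Fin 2) (Fin 2) K)
      simp only [smul_single, smul_eq_mul, mul_one]
      have e : ∀ M N : Matrix (Fin 2) (Fin 2) K, ((M + N).map b.τ)ᵀ = (M.map b.τ)ᵀ + (N.map b.τ)ᵀ := by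
        intro M N
        ext i j
        simp
      rw [e, single_ct, single_ct, b.invol, add_comm]
  have hne : ∀ i (k : K), BB ω (b.τ ω) i ≠ k • 1 := by
    intro i k h
    fin_cases i
    · have h' : (single 0 0 1 : Matrix (Fin 2) (Fin 2) K) = k • 1 := h
      have a1 := congrFun (congrFun h' 0) 0
      have a2 := congrFun (congrFun h' 1) 1
      simp at a1 a2
      exact one_ne_zero (a1.trans a2.symm)
    · have h' : (single 0 0 1 : Matrix (Fin 2) (Fin 2) K) = k • 1 := h
      have a1 := congrFun (congrFun h' 0) 0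
      have a2 := congrFun (congrFun h' 1) 1
      simp at a1 a2
      exact one_ne_zero (a1.trans a2.symm)
    · have h' : pth K 2 = k • 1 := h
      have a1 := congrFun (congrFun h' 0) 1
      simp [pth_apply] at a1
    · have h' : ω • single 0 1 (1 : K) + b.τ ω • single 1 0 (1 : K) = k • (1 : Matrix (Fin 2) (Fin 2) K) := h
      have a1 := congrFun (congrFun h' 0) 1
      simp at a1
      exact hω a1
  refine fiveB_of_good b hn Ψ hS hA (BB ω (b.τ ω)) ![h1, h2', h3, h1] hne (fun i => ?_) (fun i => ?_)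
    (fun i => adj_kron Ψ hadj (hherm i) ?_) (good_two h2 H hgen)
  · fin_cases i
    exacts [H.s1, H.s2, H.s3, H.s1]
  · fin_cases i
    exacts [H.n1, H.n2, H.n3, H.n1]
  · fin_cases i
    exacts [H.k1, H.k2, H.k3, H.k1]

/-- the two factors exchanged -/
noncomputable def swp {I J : Type*} [Fintype I] [DecidableEq I] [Fintype J] [DecidableEq J]
    (Ψ : Matrix (I × J) (I × J) K ≃ₐ[K] R K V) : Matrix (J × I) (J × I) K ≃ₐ[K] R K V :=
  (Matrix.reindexAlgEquiv K K (Equiv.prodComm J I)).trans Ψ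

theorem swp_kron {I J : Type*} [Fintype I] [DecidableEq I] [Fintype J] [DecidableEq J]
    (Ψ : Matrix (I × J) (I × J) K ≃ₐ[K] R K V) (C : Matrix J J K) (B : Matrix I I K) :
    swp Ψ (C ⊗ₖ B) = Ψ (B ⊗ₖ C) := by
  change Ψ (Matrix.reindexAlgEquiv K K (Equiv.prodComm J I) (C ⊗ₖ B)) = _
  congr 1
  ext ⟨i, j⟩ ⟨k, l⟩
  simp [kroneckerMap_apply, mul_comm]

/-- **tensor decompositions of unitary spaces**; the only case left out is `2 ⊗ 2` in characteristic 2 -/
theorem fiveB_tensor {b : Cl K V} (hU : b.IsU) (hn : 1 ≤ Module.finrank K V) {S : Subgroup (Equiv.Perm (R K V))}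
    (hS : S ≤ RB b) {u' y : ℕ} (Φ : Matrix (Fin u' × Fin y) (Fin u' × Fin y) K ≃ₐ[K] R K V) (hu : 2 ≤ u') (hy : 2 ≤ y)
    (h2 : u' = 2 → y = 2 → (2 : K) ≠ 0)
    (hadj : ∀ B : Matrix (Fin u') (Fin u') K, ∃ B' : Matrix (Fin u') (Fin u') K,
      b.Adj (Φ (B ⊗ₖ (1 : Matrix (Fin y) (Fin y) K))) (Φ (B' ⊗ₖ (1 : Matrix (Fin y) (Fin y) K))))
    (hA : ∀ f ∈ S, ∀ B : Matrix (Fin u') (Fin u') K, ∃ B' : Matrix (Fin u') (Fin u') K,
      f (Φ (B ⊗ₖ (1 : Matrix (Fin y) (Fin y) K))) = Φ (B' ⊗ₖ (1 : Matrix (Fin y) (Fin y) K))) : FiveB b S := by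
  have : Nonempty (Fin u') := ⟨⟨0, by omega⟩⟩
  have : Nonempty (Fin y) := ⟨⟨0, by omega⟩⟩
  obtain ⟨Ψ, h1, h3, hΨ⟩ := Cfsg.Agent.H195.FC.exists_nf b hU Φ hadj
  have hA' : ∀ f ∈ S, ∀ B : Matrix (Fin u') (Fin u') K, ∃ B' : Matrix (Fin u') (Fin u') K,
      f (Ψ (B ⊗ₖ (1 : Matrix (Fin y) (Fin y) K))) = Ψ (B' ⊗ₖ (1 : Matrix (Fin y) (Fin y) K)) := by
    intro f hf B
    obtain ⟨B1, hB1⟩ := h3 B
    obtain ⟨B2, hB2⟩ := hA f hf B1
    obtain ⟨B3, hB3⟩ := h1 B2
    exact ⟨B3, by rw [hB1, hB2, hB3]⟩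
  by_cases hu3 : 3 ≤ u'
  · exact fiveB_one hU hn hu3 (by simpa using hy) Ψ hΨ hS hA'
  by_cases hy3 : 3 ≤ y
  · refine fiveB_one hU hn hy3 (J := Fin u') (by simpa using hu) (swp Ψ) (fun X => ?_) hS (fun f hf C => ?_)
    · have e : swp Ψ ((X.map b.τ)ᵀ) =
          Ψ (((Matrix.reindexAlgEquiv K K (Equiv.prodComm (Fin y) (Fin u')) X).map b.τ)ᵀ) := rfl
      rw [e]
      exact hΨ _
    · obtain ⟨C', hC'⟩ := stab_right Ψ (hS hf).1 (hA' f hf) C
      exact ⟨C', by rw [swp_kron, swp_kron, hC']⟩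
  · obtain rfl : u' = 2 := by omega
    obtain rfl : y = 2 := by omega
    exact fiveB_two hU hn (h2 rfl rfl) Ψ hΨ hS hA'

end cases

/-- **5392** -/
theorem stmtBC4nK : Cfsg.Agent.H786.FC.StmtBC4nK.{u, v} true := by
  intro K _ _ V _ _ _ b hk hb S hS _ u' y Φ hu hy hu0 hadj hA
  have hn : 1 ≤ Module.finrank K V := by
    rcases hb with h | h
    · exact le_trans (by norm_num) h.2.1
    · exact le_trans (by norm_num) h.2.1
  refine fiveB_tensor (hk.1 rfl) hn hS Φ hu hy (fun h _ => ?_) hadj hA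
  subst h
  exact_mod_cast hu0

end Cfsg.Agent.H920.FC
end
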